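/-
Components permuted by an elementary abelian group: diagonal subgroups and what two of them generate.
-/
import Cfsg.Agent.Lib.Components.Basic
import Cfsg.Agent.Lib.CentrallyLarge.Invariant

set_option autoImplicit false

namespace Cfsg.Agent.PGV

open Subgroup

variable {G : Type*} [Group G]

/-- The product of the first `n` conjugates of `y` under powers of `a`. -/
def dl (a : G) : ℕ → G → G
  | 0, _ => 1
  | n + 1, y => dl a n y * (a ^ n * y * (a ^ n)⁻¹)

/-- The join of the conjugates of `K` under `A`. -/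
def orb (K A : Subgroup G) : Subgroup G := ⨆ c : A, K.map (MulAut.conj (c : G)).toMonoidHom

/-- The hypothesis on `K` and `A`. -/
structure Setting (K A : Subgroup G) (p : ℕ) : Prop where
  comp : Cfsg.IsComponent K
  comm : ∀ a ∈ A, ∀ b ∈ A, a * b = b * a
  exp : ∀ a ∈ A, a ^ p = 1

variable {K A : Subgroup G} {p : ℕ}

theorem conj_mem_orb {c : G} (hc : c ∈ A) {y : G} (hy : y ∈ K) : c * y * c⁻¹ ∈ orb K A :=
  le_iSup (fun c : A => K.map (MulAut.conj (c : G)).toMonoidHom) ⟨c, hc⟩ ⟨y, hy, rfl⟩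

theorem le_orb : K ≤ orb K A := fun y hy => by simpa using conj_mem_orb (one_mem A) hy

theorem orb_le {H : Subgroup G} (h : ∀ c ∈ A, ∀ y ∈ K, c * y * c⁻¹ ∈ H) : orb K A ≤ H :=
  iSup_le fun c => by rintro _ ⟨y, hy, rfl⟩; exact h c c.2 y hy

theorem A_le_normalizer_orb : A ≤ normalizer (orb K A : Set G) := by
  refine CLarge.le_normalizer_of_forall fun a ha x hx => ?_
  have h : orb K A ≤ (orb K A).comap (MulAut.conj a).toMonoidHom := orb_le fun c hc y hy => by
    show a * (c * y * c⁻¹) * a⁻¹ ∈ orb K A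
    simpa [mul_assoc] using conj_mem_orb (mul_mem ha hc) hy
  exact h hx

/-- `h` acts on the conjugate of `K` by `c` as `y` does. -/
def Acts (K : Subgroup G) (c h y : G) : Prop :=
  ∀ x ∈ K, h * (c * x * c⁻¹) * h⁻¹ = y * (c * x * c⁻¹) * y⁻¹

theorem dl_commute {a g : G} {n : ℕ} {y : G} (h : ∀ i < n, Commute g (a ^ i * y * (a ^ i)⁻¹)) :
    Commute g (dl a n y) := by
  induction n with
  | zero => exact Commute.one_right g
  | succ n ih => exact (ih fun i hi => h i (by omega)).mul_right (h n (by omega))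

theorem dl_mem {a : G} (ha : a ∈ A) {y : G} (hy : y ∈ K) : ∀ n, dl a n y ∈ orb K A
  | 0 => one_mem _
  | n + 1 => mul_mem (dl_mem ha hy n) (conj_mem_orb (pow_mem ha n) hy)

theorem dl_one {a : G} : ∀ n, dl a n 1 = 1
  | 0 => rfl
  | n + 1 => by simp [dl, dl_one n]

theorem conj_dl {a c : G} (hac : Commute c a) (y : G) : ∀ n, c * dl a n y * c⁻¹ = dl a n (c * y * c⁻¹)
  | 0 => by simp [dl]
  | n + 1 => by
    rw [dl, dl, ← conj_dl hac y n]
    have h : Commute c (a ^ n) := hac.pow_right n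
    calc c * (dl a n y * (a ^ n * y * (a ^ n)⁻¹)) * c⁻¹
        = c * dl a n y * c⁻¹ * ((c * a ^ n) * y * (c * a ^ n)⁻¹) := by group
      _ = _ := by rw [h.eq]; group

variable [Finite G]

theorem comp_conj (hS : Setting K A p) (c : G) : Cfsg.IsComponent (K.map (MulAut.conj c).toMonoidHom) :=
  Components.component_conj hS.comp c

theorem conj_ne {c d : G} (h : d⁻¹ * c ∉ normalizer (K : Set G)) :
    K.map (MulAut.conj c).toMonoidHom ≠ K.map (MulAut.conj d).toMonoidHom := by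
  intro e
  apply h
  rw [mem_normalizer_iff_map_conj_eq]
  have h2 := congrArg (Subgroup.map (MulAut.conj d⁻¹).toMonoidHom) e
  rw [map_map, map_map] at h2
  convert h2 using 1
  · congr 1; ext x; simp [mul_assoc]
  · conv_lhs => rw [← K.map_id]
    congr 1; ext x; simp [mul_assoc]

theorem commute_of_ne (hS : Setting K A p) {c d y x : G} (h : d⁻¹ * c ∉ normalizer (K : Set G))
    (hy : y ∈ K) (hx : x ∈ K) : Commute (c * y * c⁻¹) (d * x * d⁻¹) := by
  have h1 := Components.components_commute (comp_conj hS c) (comp_conj hS d) (conj_ne h)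
  exact (mem_centralizer_iff.1 (commutator_eq_bot_iff_le_centralizer.1 h1 ⟨y, hy, rfl⟩) _ ⟨x, hx, rfl⟩).symm

/-- An element commuting with all conjugates commutes with their join. -/
theorem commute_orb {g : G} (h : ∀ c ∈ A, ∀ x ∈ K, Commute g (c * x * c⁻¹)) {l : G} (hl : l ∈ orb K A) :
    Commute g l := by
  have : orb K A ≤ centralizer ({g} : Set G) := orb_le fun c hc x hx =>
    mem_centralizer_singleton_iff.2 (h c hc x hx).eq.symm
  exact (mem_centralizer_singleton_iff.1 (this hl)).symm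

theorem orb_le_normalizer (hS : Setting K A p) : orb K A ≤ normalizer (K : Set G) := by
  refine orb_le fun c _ y hy => ?_
  by_cases h : c ∈ normalizer (K : Set G)
  · exact le_normalizer (CLarge.conj_mem h hy)
  · refine (centralizer_le_normalizer _) (mem_centralizer_iff.2 fun x hx => ?_)
    have := commute_of_ne hS (c := c) (d := 1) (by simpa using h) hy hx
    simpa using this.eq.symm

theorem not_mem_normalizer_pow (hp : p.Prime) (hS : Setting K A p) {a : G} (ha : a ∈ A)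
    (haK : a ∉ normalizer (K : Set G)) {m : ℕ} (hm : ¬ p ∣ m) : a ^ m ∉ normalizer (K : Set G) := by
  intro h
  apply haK
  have : Fact p.Prime := ⟨hp⟩
  have h1 : a ^ (m * ((m : ZMod p)⁻¹).val) = a := by
    rw [pow_eq_pow_mod _ (hS.exp a ha)]
    have : ((m * ((m : ZMod p)⁻¹).val : ℕ) : ZMod p) = ((1 : ℕ) : ZMod p) := by
      rw [Nat.cast_mul, ZMod.natCast_zmod_val, Nat.cast_one]
      exact mul_inv_cancel₀ (by rwa [Ne, ZMod.natCast_eq_zero_iff])
    rw [(ZMod.natCast_eq_natCast_iff' _ _ _).1 this, Nat.one_mod_eq_one.2 hp.ne_one, pow_one]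
  rw [← h1, pow_mul]
  exact pow_mem h _

theorem sep (hp : p.Prime) (hS : Setting K A p) {a : G} (ha : a ∈ A)
    (haK : a ∉ normalizer (K : Set G)) {i n : ℕ} (hin : i < n) (hn : n < p) :
    (a ^ n)⁻¹ * a ^ i ∉ normalizer (K : Set G) := by
  intro h
  obtain ⟨d, rfl⟩ : ∃ d, n = i + (d + 1) := ⟨n - i - 1, by omega⟩
  refine not_mem_normalizer_pow hp hS ha haK (m := d + 1) (fun h => ?_) ?_
  · have := Nat.le_of_dvd (by omega) h; omega
  · have h2 := inv_mem h
    rw [mul_inv_rev, inv_inv, pow_add, inv_mul_cancel_left] at h2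
    exact h2

theorem dl_mul (hp : p.Prime) (hS : Setting K A p) {a : G} (ha : a ∈ A)
    (haK : a ∉ normalizer (K : Set G)) {y z : G} (hy : y ∈ K) (hz : z ∈ K) :
    ∀ n, n ≤ p → dl a n (y * z) = dl a n y * dl a n z
  | 0, _ => by simp [dl]
  | n + 1, hn => by
    rw [dl, dl, dl, dl_mul hp hS ha haK hy hz n (by omega)]
    have hc : Commute (a ^ n * y * (a ^ n)⁻¹) (dl a n z) := dl_commute fun i hi =>
      (commute_of_ne hS (sep hp hS ha haK hi (by omega)) hz hy).symm
    calc dl a n y * dl a n z * (a ^ n * (y * z) * (a ^ n)⁻¹)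
        = dl a n y * (dl a n z * (a ^ n * y * (a ^ n)⁻¹)) * (a ^ n * z * (a ^ n)⁻¹) := by group
      _ = _ := by rw [← hc.eq]; group

theorem dl_inv (hp : p.Prime) (hS : Setting K A p) {a : G} (ha : a ∈ A)
    (haK : a ∉ normalizer (K : Set G)) {y : G} (hy : y ∈ K) : (dl a p y)⁻¹ = dl a p y⁻¹ :=
  inv_eq_of_mul_eq_one_right (by
    rw [← dl_mul hp hS ha haK hy (inv_mem hy) p le_rfl, mul_inv_cancel, dl_one])

theorem dl_acts_out (hS : Setting K A p) {a c y : G} (hy : y ∈ K) {n : ℕ}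
    (h : ∀ i < n, (a ^ i)⁻¹ * c ∉ normalizer (K : Set G)) : Acts K c (dl a n y) 1 := by
  intro x hx
  have hc : Commute (c * x * c⁻¹) (dl a n y) := dl_commute fun i hi => commute_of_ne hS (h i hi) hx hy
  rw [← hc.eq, mul_inv_cancel_right]; simp

theorem dl_acts_in (hp : p.Prime) (hS : Setting K A p) {a c y : G} (ha : a ∈ A)
    (haK : a ∉ normalizer (K : Set G)) (hy : y ∈ K) {j : ℕ} (hjp : j < p)
    (hj : (a ^ j)⁻¹ * c ∈ normalizer (K : Set G)) :
    Acts K c (dl a p y) (a ^ j * y * (a ^ j)⁻¹) := by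
  suffices H : ∀ n, n ≤ p → j < n → Acts K c (dl a n y) (a ^ j * y * (a ^ j)⁻¹) from H p le_rfl hjp
  intro n hn hjn
  induction n with
  | zero => omega
  | succ n ih =>
    intro x hx
    rw [dl]
    rcases Nat.lt_or_ge j n with h | h
    · have h2 := ih (by omega) h x hx
      have hout : (a ^ n)⁻¹ * c ∉ normalizer (K : Set G) := fun h3 => sep hp hS ha haK h (by omega) (by
        have := mul_mem h3 (inv_mem hj)
        rwa [mul_inv_rev, inv_inv, mul_assoc, mul_inv_cancel_left] at this)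
      have hc : Commute (c * x * c⁻¹) (a ^ n * y * (a ^ n)⁻¹) := commute_of_ne hS hout hx hy
      rw [← h2]
      calc _ = dl a n y * ((a ^ n * y * (a ^ n)⁻¹) * (c * x * c⁻¹) * (a ^ n * y * (a ^ n)⁻¹)⁻¹) * (dl a n y)⁻¹ := by group
        _ = _ := by rw [← hc.eq, mul_inv_cancel_right]
    · obtain rfl : j = n := by omega
      have hout : ∀ i < j, (a ^ i)⁻¹ * c ∉ normalizer (K : Set G) := fun i hi h3 => sep hp hS ha haK hi (by omega) (by
        have := mul_mem hj (inv_mem h3)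
        rwa [mul_inv_rev, inv_inv, mul_assoc, mul_inv_cancel_left] at this)
      obtain ⟨w, hw, hwe⟩ : ∃ w ∈ K, a ^ j * y * (a ^ j)⁻¹ * (c * x * c⁻¹) * (a ^ j * y * (a ^ j)⁻¹)⁻¹ = c * w * c⁻¹ := by
        refine ⟨_, ?_, (show _ = c * (c⁻¹ * (a ^ j * y * (a ^ j)⁻¹ * (c * x * c⁻¹) * (a ^ j * y * (a ^ j)⁻¹)⁻¹) * c) * c⁻¹ by group)⟩
        have hy' : ((a ^ j)⁻¹ * c)⁻¹ * y * ((a ^ j)⁻¹ * c)⁻¹⁻¹ ∈ K := CLarge.conj_mem (inv_mem hj) hy
        have := K.mul_mem (K.mul_mem hy' hx) (K.inv_mem hy')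
        simpa [mul_assoc] using this
      have h2 := dl_acts_out hS hy hout w hw
      rw [← hwe] at h2
      simpa [mul_assoc] using h2

theorem dl_fix (hp : p.Prime) (hS : Setting K A p) {a : G} (ha : a ∈ A)
    (haK : a ∉ normalizer (K : Set G)) {y : G} (hy : y ∈ K) : Commute a (dl a p y) := by
  have hshift : ∀ n, y * (a * dl a n y * a⁻¹) = dl a (n + 1) y := by
    intro n
    induction n with
    | zero => simp [dl]
    | succ n ih =>
      conv_rhs => rw [dl, ← ih]
      rw [dl, pow_succ']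
      group
  have hact : Acts K 1 (dl a p y) (a ^ 0 * y * (a ^ 0)⁻¹) :=
    dl_acts_in hp hS ha haK hy hp.pos (by simp)
  have h1 := hact y hy
  simp only [one_mul, inv_one, mul_one, pow_zero, mul_inv_cancel_right] at h1
  have h3 := hshift p
  rw [dl, hS.exp a ha, one_mul, inv_one, mul_one, mul_inv_eq_iff_eq_mul.1 h1] at h3
  have h4 := mul_left_cancel h3
  exact (mul_inv_eq_iff_eq_mul.1 h4)

/-- An element inducing central commutators on `K` centralizes it. -/
theorem commute_of_central (hS : Setting K A p) {e : G} (he : e ∈ normalizer (K : Set G))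
    (h : ∀ y ∈ K, ∀ x ∈ K, Commute x (y⁻¹ * (e * y * e⁻¹))) : ∀ x ∈ K, Commute e x := by
  have hle : K ≤ centralizer ({e} : Set G) := by
    rw [← Components.component_commutator_eq hS.comp, commutator_le]
    intro u hu v hv
    rw [mem_centralizer_singleton_iff]
    obtain ⟨c, hc⟩ : ∃ c, e * u * e⁻¹ = u * c := ⟨_, (mul_inv_cancel_left u _).symm⟩
    obtain ⟨d, hd⟩ : ∃ d, e * v * e⁻¹ = v * d := ⟨_, (mul_inv_cancel_left v _).symm⟩
    have hcK : ∀ x ∈ K, Commute x c := fun x hx => by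
      have := h u hu x hx; rwa [hc, inv_mul_cancel_left] at this
    have hdK : ∀ x ∈ K, Commute x d := fun x hx => by
      have := h v hv x hx; rwa [hd, inv_mul_cancel_left] at this
    have hdmem : d ∈ K := by
      have := K.mul_mem (K.inv_mem hv) (CLarge.conj_mem he hv)
      rwa [hd, inv_mul_cancel_left] at this
    have h1 : Commute c (v * d) := ((hcK v hv).symm).mul_right (hcK d hdmem).symm
    have h2 : Commute d u⁻¹ := ((hdK u hu).symm).inv_right
    have key : e * (u * v * u⁻¹ * v⁻¹) * e⁻¹ = u * v * u⁻¹ * v⁻¹ := by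
      rw [show e * (u * v * u⁻¹ * v⁻¹) * e⁻¹ =
        (e * u * e⁻¹) * (e * v * e⁻¹) * (e * u * e⁻¹)⁻¹ * (e * v * e⁻¹)⁻¹ by group, hc, hd]
      calc u * c * (v * d) * (u * c)⁻¹ * (v * d)⁻¹ = u * (c * (v * d) * c⁻¹) * u⁻¹ * (v * d)⁻¹ := by group
        _ = u * v * (d * u⁻¹) * d⁻¹ * v⁻¹ := by rw [h1.eq, mul_inv_cancel_right]; group
        _ = _ := by rw [h2.eq]; group
    exact (mul_inv_eq_iff_eq_mul.1 key).symm
  exact fun x hx => (mem_centralizer_singleton_iff.1 (hle hx)).symm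

theorem exists_noncommute (hS : Setting K A p) :
    ∃ y ∈ K, ∃ z ∈ K, ∃ x ∈ K, ¬ Commute x (y * z * y⁻¹ * z⁻¹) := by
  by_contra h
  push Not at h
  have hle : K ≤ centralizer (K : Set G) := by
    conv_lhs => rw [← Components.component_commutator_eq hS.comp]
    rw [commutator_le]
    exact fun y hy z hz => mem_centralizer_iff.2 fun x hx => (h y hy z hz x hx).eq
  exact Components.quasisimple_not_commutative hS.comp.2 (le_centralizer_iff_isMulCommutative.1 hle)

/-- A subgroup of `K` that `K` normalises and that is not central is all of `K`. -/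
theorem eq_of_noncentral (hS : Setting K A p) {N : Subgroup G} (hNK : N ≤ K)
    (hn : ∀ k ∈ K, ∀ y ∈ N, k * y * k⁻¹ ∈ N) {y x : G} (hy : y ∈ N) (hx : x ∈ K) (hc : ¬ Commute x y) :
    N = K := by
  have : (N.subgroupOf K).Normal := ⟨fun w hw k => mem_subgroupOf.2 (hn k k.2 w (mem_subgroupOf.1 hw))⟩
  rcases Components.quasisimple_normal hS.comp.2 (N.subgroupOf K) with h | h
  · exact le_antisymm hNK (subgroupOf_eq_top.1 h)
  · exact absurd (congrArg Subtype.val (mem_center_iff.1 (h (show (⟨y, hNK hy⟩ : K) ∈ N.subgroupOf K from mem_subgroupOf.2 hy)) ⟨x, hx⟩)) hc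

/-- Elements of the join act on `K` as elements of `K`. -/
theorem exists_acts_one (hS : Setting K A p) {l : G} (hl : l ∈ orb K A) : ∃ y ∈ K, Acts K 1 l y := by
  let M : Subgroup G :=
    { carrier := {l | ∃ y ∈ K, Acts K 1 l y}
      one_mem' := ⟨1, one_mem _, fun x _ => rfl⟩
      mul_mem' := fun {g h} ⟨u, hu, hgu⟩ ⟨v, hv, hhv⟩ => by
        refine ⟨u * v, mul_mem hu hv, fun x hx => ?_⟩
        have e2 := hhv x hx
        have e1 := hgu (v * x * v⁻¹) (K.mul_mem (K.mul_mem hv hx) (K.inv_mem hv))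
        simp only [one_mul, inv_one, mul_one] at e1 e2 ⊢
        calc _ = g * (h * x * h⁻¹) * g⁻¹ := by group
          _ = _ := by rw [e2, e1]; group
      inv_mem' := fun {g} ⟨u, hu, hgu⟩ => by
        refine ⟨u⁻¹, inv_mem hu, fun x hx => ?_⟩
        have e1 := hgu (u⁻¹ * x * u) (K.mul_mem (K.mul_mem (K.inv_mem hu) hx) hu)
        simp only [one_mul, inv_one, mul_one] at e1 ⊢
        calc g⁻¹ * x * g⁻¹⁻¹ = g⁻¹ * (u * (u⁻¹ * x * u) * u⁻¹) * g⁻¹⁻¹ := by group
          _ = _ := by rw [← e1]; group }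
  refine (orb_le (H := M) fun c _ y hy => ?_) hl
  by_cases h : c ∈ normalizer (K : Set G)
  · exact ⟨_, CLarge.conj_mem h hy, fun x _ => rfl⟩
  · refine ⟨1, one_mem _, fun x hx => ?_⟩
    have h2 := commute_of_ne hS (c := c) (d := 1) (by simpa using h) hy hx
    rw [h2.eq, mul_inv_cancel_right]
    simp

/-- Two different diagonals generate the whole join of the conjugates. -/
theorem orb_le_of_diag (hp : p.Prime) (hS : Setting K A p) {a a' : G} (ha : a ∈ A) (ha' : a' ∈ A)
    (haK : a ∉ normalizer (K : Set G)) (ha'K : a' ∉ normalizer (K : Set G))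
    (hdist : ∀ i : ℕ, (a ^ i)⁻¹ * a' ∉ centralizer (orb K A : Set G))
    {H : Subgroup G} (hHL : H ≤ orb K A) (hHA : ∀ c ∈ A, ∀ h ∈ H, c * h * c⁻¹ ∈ H)
    (h1 : ∀ y ∈ K, dl a p y ∈ H) (h2 : ∀ y ∈ K, dl a' p y ∈ H) : orb K A ≤ H := by
  obtain ⟨y0, hy0, z0, hz0, x0, hx0, hne⟩ := exists_noncommute hS
  have hy0' : ∃ y ∈ K, ∃ x ∈ K, ¬ Commute x y :=
    ⟨y0 * z0 * y0⁻¹ * z0⁻¹, K.mul_mem (K.mul_mem (K.mul_mem hy0 hz0) (K.inv_mem hy0)) (K.inv_mem hz0), x0, hx0, hne⟩
  have hnc : ∀ {c : G}, c ∈ A → c ∈ normalizer (K : Set G) → (∀ x ∈ K, Commute c x) → c ∈ centralizer (orb K A : Set G) := by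
    intro c hc _ hcK
    refine mem_centralizer_iff.2 fun l hl => ((commute_orb (fun d hd x hx => ?_) hl).eq).symm
    have hcd : Commute c d := hS.comm c hc d hd
    exact (hcd.mul_right (hcK x hx)).mul_right hcd.inv_right
  -- witnesses trivial on `K` and not central on the conjugate by `c`
  have hsep1 : ∀ {b : G}, b ∈ A → b ∉ normalizer (K : Set G) → (∀ y ∈ K, dl b p y ∈ H) → ∀ c ∈ A,
      (∀ i < p, (b ^ i)⁻¹ * c ∉ normalizer (K : Set G)) →
      ∃ h ∈ H, Acts K 1 h 1 ∧ ∃ x ∈ K, ¬ Commute (c * x * c⁻¹) h := by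
    intro b hb hbK hbH c hc hout
    obtain ⟨y, hy, x, hx, hxy⟩ := hy0'
    refine ⟨c * dl b p y * c⁻¹, hHA c hc _ (hbH y hy), ?_, x, hx, fun hcm => hxy ?_⟩
    · have hout' : Acts K c⁻¹ (dl b p y) 1 := dl_acts_out hS hy fun i hi h =>
        hout ((p - i) % p) (Nat.mod_lt _ hp.pos) (by
          have hcb : Commute c (b ^ i) := (show Commute c b from hS.comm c hc b hb).pow_right i
          have hbi : (b ^ ((p - i) % p))⁻¹ = b ^ i := by
            rw [← pow_eq_pow_mod _ (hS.exp b hb)]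
            exact inv_eq_of_mul_eq_one_right (by
              rw [← pow_add, show p - i + i = p by omega, hS.exp b hb])
          have := inv_mem h
          rw [mul_inv_rev, inv_inv, inv_inv, hcb.eq] at this
          rwa [hbi])
      intro w hw
      have h := hout' w hw
      simp only [inv_inv, one_mul, inv_one, mul_one] at h ⊢
      calc c * dl b p y * c⁻¹ * w * (c * dl b p y * c⁻¹)⁻¹ = c * (dl b p y * (c⁻¹ * w * c) * (dl b p y)⁻¹) * c⁻¹ := by group
        _ = w := by rw [h]; group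
    · have h1' : Commute x (dl b p y) := by
        have := hcm.map (MulAut.conj c⁻¹).toMonoidHom
        simpa [mul_assoc] using this
      have hin : Acts K 1 (dl b p y) (b ^ 0 * y * (b ^ 0)⁻¹) := dl_acts_in hp hS hb hbK hy hp.pos (by simp)
      have h := hin x hx
      simp only [one_mul, inv_one, mul_one, pow_zero] at h
      rw [← h1'.eq, mul_inv_cancel_right] at h
      exact (mul_inv_eq_iff_eq_mul.1 h.symm).symm
  have hsep : ∀ c ∈ A, c ∉ normalizer (K : Set G) →
      ∃ h ∈ H, Acts K 1 h 1 ∧ ∃ x ∈ K, ¬ Commute (c * x * c⁻¹) h := by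
    intro c hc hcK
    by_cases hi : ∀ i < p, (a ^ i)⁻¹ * c ∉ normalizer (K : Set G)
    · exact hsep1 ha haK h1 c hc hi
    by_cases hj : ∀ j < p, (a' ^ j)⁻¹ * c ∉ normalizer (K : Set G)
    · exact hsep1 ha' ha'K h2 c hc hj
    push Not at hi hj
    obtain ⟨i, hip, hi⟩ := hi
    obtain ⟨j, hjp, hj⟩ := hj
    obtain ⟨b, hb⟩ : ∃ b, b = (a ^ i)⁻¹ * a' ^ j := ⟨_, rfl⟩
    have hbA : b ∈ A := hb ▸ mul_mem (inv_mem (pow_mem ha i)) (pow_mem ha' j)
    have hbN : b ∈ normalizer (K : Set G) := by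
      have := mul_mem hi (inv_mem hj)
      rwa [mul_inv_rev, inv_inv, mul_assoc, mul_inv_cancel_left, ← hb] at this
    have hbc : ¬ ∀ x ∈ K, Commute b x := by
      intro hcom
      have hmem := hnc hbA hbN hcom
      have : Fact p.Prime := ⟨hp⟩
      have hj0 : ¬ p ∣ j := fun h => by
        obtain rfl := Nat.eq_zero_of_dvd_of_lt h hjp
        exact hcK (by simpa using hj)
      obtain ⟨k, hk⟩ : ∃ k : ℕ, a' ^ (j * k) = a' := by
        refine ⟨((j : ZMod p)⁻¹).val, ?_⟩
        have : ((j * ((j : ZMod p)⁻¹).val : ℕ) : ZMod p) = ((1 : ℕ) : ZMod p) := by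
          rw [Nat.cast_mul, ZMod.natCast_zmod_val, Nat.cast_one]
          exact mul_inv_cancel₀ (by rwa [Ne, ZMod.natCast_eq_zero_iff])
        rw [pow_eq_pow_mod _ (hS.exp a' ha'), (ZMod.natCast_eq_natCast_iff' _ _ _).1 this,
          Nat.one_mod_eq_one.2 hp.ne_one, pow_one]
      apply hdist (i * k)
      have hcomm : Commute (a ^ i)⁻¹ (a' ^ j) := hS.comm _ (inv_mem (pow_mem ha i)) _ (pow_mem ha' j)
      have h3 := pow_mem hmem k
      rwa [hb, hcomm.mul_pow, inv_pow, ← pow_mul, ← pow_mul, hk] at h3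
    obtain ⟨y, hy, x, hx, hxy⟩ : ∃ y ∈ K, ∃ x ∈ K, ¬ Commute x (y⁻¹ * (b * y * b⁻¹)) := by
      by_contra h
      push Not at h
      exact hbc (commute_of_central hS hbN h)
    refine ⟨(dl a p y)⁻¹ * dl a' p y, H.mul_mem (H.inv_mem (h1 y hy)) (h2 y hy), ?_, ?_⟩
    · intro w hw
      have e1 : Acts K 1 (dl a p y⁻¹) (a ^ 0 * y⁻¹ * (a ^ 0)⁻¹) :=
        dl_acts_in hp hS ha haK (inv_mem hy) hp.pos (by simp)
      have e2 : Acts K 1 (dl a' p y) (a' ^ 0 * y * (a' ^ 0)⁻¹) := dl_acts_in hp hS ha' ha'K hy hp.pos (by simp)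
      have f2 := e2 w hw
      have f1 := e1 (y * w * y⁻¹) (K.mul_mem (K.mul_mem hy hw) (K.inv_mem hy))
      simp only [one_mul, inv_one, mul_one, pow_zero] at f1 f2 ⊢
      rw [dl_inv hp hS ha haK hy]
      calc _ = dl a p y⁻¹ * (dl a' p y * w * (dl a' p y)⁻¹) * (dl a p y⁻¹)⁻¹ := by group
        _ = w := by rw [f2, f1]; group
    · -- on the conjugate by `c` it acts as a conjugate of `y⁻¹ b y b⁻¹`
      obtain ⟨n, hn⟩ : ∃ n, n = (a ^ i)⁻¹ * c := ⟨_, rfl⟩
      have hnN : n ∈ normalizer (K : Set G) := hn ▸ hi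
      refine ⟨n⁻¹ * x * n, by simpa using CLarge.conj_mem (inv_mem hnN) hx, fun hcm => hxy ?_⟩
      have hcx : c * (n⁻¹ * x * n) * c⁻¹ = a ^ i * x * (a ^ i)⁻¹ := by rw [hn]; group
      rw [hcx] at hcm
      have e1 := dl_acts_in hp hS ha haK (c := a ^ i) (inv_mem hy) hip (by simp)
      have e2 := dl_acts_in hp hS ha' ha'K (c := a ^ i) hy hjp (by
        have := inv_mem hbN
        rwa [hb, mul_inv_rev, inv_inv] at this)
      have f2 := e2 x hx
      obtain ⟨w, hw, hwe⟩ : ∃ w ∈ K, a' ^ j * y * (a' ^ j)⁻¹ * (a ^ i * x * (a ^ i)⁻¹) * (a' ^ j * y * (a' ^ j)⁻¹)⁻¹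
          = a ^ i * w * (a ^ i)⁻¹ :=
        ⟨b * y * b⁻¹ * x * (b * y * b⁻¹)⁻¹, K.mul_mem (K.mul_mem (CLarge.conj_mem hbN hy) hx)
          (K.inv_mem (CLarge.conj_mem hbN hy)), by rw [hb]; group⟩
      have f1 := e1 w hw
      rw [← dl_inv hp hS ha haK hy, ← hwe, ← f2] at f1
      have h3 : a ^ i * x * (a ^ i)⁻¹ = (dl a p y)⁻¹ * (dl a' p y * (a ^ i * x * (a ^ i)⁻¹) * (dl a' p y)⁻¹) * ((dl a p y)⁻¹)⁻¹ := by
        rw [show (dl a p y)⁻¹ * (dl a' p y * (a ^ i * x * (a ^ i)⁻¹) * (dl a' p y)⁻¹) * ((dl a p y)⁻¹)⁻¹ =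
          ((dl a p y)⁻¹ * dl a' p y) * (a ^ i * x * (a ^ i)⁻¹) * ((dl a p y)⁻¹ * dl a' p y)⁻¹ by group,
          ← hcm.eq, mul_inv_cancel_right]
      rw [f1, f2] at h3
      have hbv : b = (a ^ i)⁻¹ * a' ^ j := hb
      have h4 : x = (y⁻¹ * (b * y * b⁻¹)) * x * (y⁻¹ * (b * y * b⁻¹))⁻¹ := by
        refine mul_left_cancel (a := a ^ i) (mul_right_cancel (b := (a ^ i)⁻¹) ?_)
        rw [h3, hbv]; group
      exact (mul_inv_eq_iff_eq_mul.1 h4.symm).symm
  -- elements of `H` trivial on any set of other conjugates still act as every element of `K`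
  let F : (Finset A) → Subgroup G := fun S =>
    { carrier := {h | h ∈ H ∧ ∀ c ∈ S, Acts K (c : G) h 1}
      one_mem' := ⟨one_mem _, fun c _ x _ => by simp⟩
      mul_mem' := fun {g h} hg hh => ⟨mul_mem hg.1 hh.1, fun c hc x hx => by
        have e1 := hg.2 c hc x hx
        have e2 := hh.2 c hc x hx
        simp only [one_mul, inv_one, mul_one] at e1 e2 ⊢
        calc _ = g * (h * ((c : G) * x * (c : G)⁻¹) * h⁻¹) * g⁻¹ := by group
          _ = _ := by rw [e2, e1]⟩
      inv_mem' := fun {g} hg => ⟨inv_mem hg.1, fun c hc x hx => by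
        have e1 := hg.2 c hc x hx
        simp only [one_mul, inv_one, mul_one] at e1 ⊢
        calc g⁻¹ * ((c : G) * x * (c : G)⁻¹) * g⁻¹⁻¹ = g⁻¹ * (g * ((c : G) * x * (c : G)⁻¹) * g⁻¹) * g⁻¹⁻¹ := by rw [e1]
          _ = _ := by group⟩ }
  have hLN : ∀ l ∈ orb K A, l ∈ normalizer (K : Set G) := fun l hl => orb_le_normalizer hS hl
  have hfull : ∀ S : Finset A, (∀ c ∈ S, (c : G) ∉ normalizer (K : Set G)) →
      ∀ y ∈ K, ∃ h ∈ F S, Acts K 1 h y := by
    classical
    intro S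
    induction S using Finset.induction with
    | empty =>
      intro _ y hy
      refine ⟨dl a p y, ⟨h1 y hy, fun c hc => absurd hc (Finset.notMem_empty c)⟩, ?_⟩
      simpa using dl_acts_in hp hS ha haK (c := 1) hy hp.pos (by simp)
    | @insert c S hcS ih =>
      intro hSK
      have hcK := hSK c (Finset.mem_insert_self c S)
      have ih' := ih fun d hd => hSK d (Finset.mem_insert_of_mem hd)
      let N : Subgroup G :=
        { carrier := {y | y ∈ K ∧ ∃ h ∈ F (insert c S), Acts K 1 h y}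
          one_mem' := ⟨one_mem _, 1, one_mem _, fun x _ => rfl⟩
          mul_mem' := fun {u v} hu hv => by
            obtain ⟨huK, g, hg, hgu⟩ := hu
            obtain ⟨hvK, h, hh, hhv⟩ := hv
            refine ⟨mul_mem huK hvK, g * h, mul_mem hg hh, fun x hx => ?_⟩
            have e2 := hhv x hx
            have e1 := hgu (v * x * v⁻¹) (K.mul_mem (K.mul_mem hvK hx) (K.inv_mem hvK))
            simp only [one_mul, inv_one, mul_one] at e1 e2 ⊢
            calc _ = g * (h * x * h⁻¹) * g⁻¹ := by group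
              _ = _ := by rw [e2, e1]; group
          inv_mem' := fun {u} hu => by
            obtain ⟨huK, g, hg, hgu⟩ := hu
            refine ⟨inv_mem huK, g⁻¹, inv_mem hg, fun x hx => ?_⟩
            have e1 := hgu (u⁻¹ * x * u) (K.mul_mem (K.mul_mem (K.inv_mem huK) hx) huK)
            simp only [one_mul, inv_one, mul_one] at e1 ⊢
            calc g⁻¹ * x * g⁻¹⁻¹ = g⁻¹ * (u * (u⁻¹ * x * u) * u⁻¹) * g⁻¹⁻¹ := by group
              _ = _ := by rw [← e1]; group }
      suffices hNK : N = K by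
        intro y hy
        exact (show y ∈ N from hNK.symm ▸ hy).2
      -- a witness separating `c` from `K`, moved to be trivial on `c`
      obtain ⟨w, hwH, hw1, x, hx, hwx⟩ := hsep (c : G)⁻¹ (A.inv_mem c.2) (fun h => hcK (inv_mem_iff.1 h))
      obtain ⟨w', hw'⟩ : ∃ w', w' = (c : G) * w * (c : G)⁻¹ := ⟨_, rfl⟩
      have hw'H : w' ∈ H := hw' ▸ hHA c c.2 w hwH
      have hw'c : Acts K (c : G) w' 1 := fun u hu => by
        have h := hw1 u hu
        simp only [one_mul, inv_one, mul_one] at h ⊢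
        rw [hw']
        calc _ = (c : G) * (w * u * w⁻¹) * (c : G)⁻¹ := by group
          _ = _ := by rw [h]
      have hw'x : ¬ Commute x w' := fun h => hwx (by
        rw [inv_inv]
        have h2 := h.map (MulAut.conj (c : G)⁻¹).toMonoidHom
        rw [hw'] at h2
        simpa [mul_assoc] using h2)
      obtain ⟨y1, hy1, hact⟩ := exists_acts_one hS (hHL hw'H)
      have hy1x : ¬ Commute x y1 := fun h => hw'x (by
        have e := hact x hx
        simp only [one_mul, inv_one, mul_one] at e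
        rw [← h.eq, mul_inv_cancel_right] at e
        exact (mul_inv_eq_iff_eq_mul.1 e).symm)
      obtain ⟨z, hz, x2, hx2, hz2⟩ : ∃ z ∈ K, ∃ x2 ∈ K, ¬ Commute x2 (z⁻¹ * (y1 * z * y1⁻¹)) := by
        by_contra h
        push Not at h
        exact hy1x (commute_of_central hS (le_normalizer hy1) h x hx).symm
      obtain ⟨g, hg, hgz⟩ := ih' z⁻¹ (inv_mem hz)
      refine eq_of_noncentral hS (fun y hy => hy.1) ?_ (y := z⁻¹ * (y1 * z * y1⁻¹)) ⟨?_, g * w' * g⁻¹ * w'⁻¹, ⟨?_, ?_⟩, ?_⟩ hx2 hz2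
      · intro k hk y hy
        obtain ⟨hyK, h, hh, hhy⟩ := hy
        refine ⟨K.mul_mem (K.mul_mem hk hyK) (K.inv_mem hk), dl a p k * h * (dl a p k)⁻¹,
          ⟨H.mul_mem (H.mul_mem (h1 k hk) hh.1) (H.inv_mem (h1 k hk)), fun d hd u hu => ?_⟩, fun u hu => ?_⟩
        · have hn : (d : G)⁻¹ * (dl a p k)⁻¹ * (d : G) ∈ normalizer (K : Set G) := hLN _ (by
            simpa using CLarge.conj_mem (A_le_normalizer_orb (A.inv_mem d.2)) ((orb K A).inv_mem (dl_mem (A := A) ha hk p)))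
          have e := hh.2 d hd _ (CLarge.conj_mem hn hu)
          simp only [one_mul, inv_one, mul_one] at e ⊢
          calc _ = dl a p k * (h * ((d : G) * ((d : G)⁻¹ * (dl a p k)⁻¹ * (d : G) * u *
                ((d : G)⁻¹ * (dl a p k)⁻¹ * (d : G))⁻¹) * (d : G)⁻¹) * h⁻¹) * (dl a p k)⁻¹ := by group
            _ = _ := by rw [e]; group
        · have e0 : ∀ v ∈ K, dl a p k * v * (dl a p k)⁻¹ = k * v * k⁻¹ := fun v hv => by
            simpa using dl_acts_in hp hS ha haK (c := 1) hk hp.pos (by simp) v hv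
          have hk' : ∀ v ∈ K, (dl a p k)⁻¹ * v * dl a p k = k⁻¹ * v * k := fun v hv => by
            have e := e0 (k⁻¹ * v * k) (K.mul_mem (K.mul_mem (K.inv_mem hk) hv) hk)
            calc _ = (dl a p k)⁻¹ * (k * (k⁻¹ * v * k) * k⁻¹) * dl a p k := by group
              _ = _ := by rw [← e]; group
          have hu' : k⁻¹ * u * k ∈ K := K.mul_mem (K.mul_mem (K.inv_mem hk) hu) hk
          have e := hhy _ hu'
          simp only [one_mul, inv_one, mul_one] at e ⊢
          calc _ = dl a p k * (h * ((dl a p k)⁻¹ * u * dl a p k) * h⁻¹) * (dl a p k)⁻¹ := by group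
            _ = dl a p k * (y * (k⁻¹ * u * k) * y⁻¹) * (dl a p k)⁻¹ := by rw [hk' u hu, e]
            _ = _ := by rw [e0 _ (K.mul_mem (K.mul_mem hyK hu') (K.inv_mem hyK))]; group
      · exact K.mul_mem (K.inv_mem hz) (K.mul_mem (K.mul_mem hy1 hz) (K.inv_mem hy1))
      · exact H.mul_mem (H.mul_mem (H.mul_mem hg.1 hw'H) (H.inv_mem hg.1)) (H.inv_mem hw'H)
      · intro d hd u hu
        have hn : ∀ l ∈ orb K A, (d : G)⁻¹ * l * (d : G) ∈ normalizer (K : Set G) := fun l hl => hLN _ (by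
          simpa using CLarge.conj_mem (A_le_normalizer_orb (A.inv_mem d.2)) hl)
        simp only [one_mul, inv_one, mul_one]
        rcases Finset.mem_insert.1 hd with rfl | hd
        · have e := hw'c u hu
          have e' : w'⁻¹ * ((d : G) * u * (d : G)⁻¹) * w' = (d : G) * u * (d : G)⁻¹ := by
            simp only [one_mul, inv_one, mul_one] at e
            conv_lhs => rw [← e]
            group
          obtain ⟨v, hv, hve⟩ : ∃ v ∈ K, g⁻¹ * ((d : G) * u * (d : G)⁻¹) * g = (d : G) * v * (d : G)⁻¹ :=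
            ⟨_, CLarge.conj_mem (hn _ ((orb K A).inv_mem (hHL hg.1))) hu, by group⟩
          have e2 := hw'c v hv
          simp only [one_mul, inv_one, mul_one] at e2
          calc _ = g * (w' * (g⁻¹ * (w'⁻¹ * ((d : G) * u * (d : G)⁻¹) * w') * g) * w'⁻¹) * g⁻¹ := by group
            _ = _ := by rw [e', hve, e2, ← hve]; group
        · have eg : ∀ v ∈ K, g * ((d : G) * v * (d : G)⁻¹) * g⁻¹ = (d : G) * v * (d : G)⁻¹ := fun v hv => by
            simpa using hg.2 d hd v hv
          obtain ⟨v, hv, hve⟩ : ∃ v ∈ K, w'⁻¹ * ((d : G) * u * (d : G)⁻¹) * w' = (d : G) * v * (d : G)⁻¹ :=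
            ⟨_, CLarge.conj_mem (hn _ ((orb K A).inv_mem (hHL hw'H))) hu, by group⟩
          have e3 : g⁻¹ * ((d : G) * v * (d : G)⁻¹) * g = (d : G) * v * (d : G)⁻¹ := by
            conv_lhs => rw [← eg v hv]
            group
          calc _ = g * (w' * (g⁻¹ * (w'⁻¹ * ((d : G) * u * (d : G)⁻¹) * w') * g) * w'⁻¹) * g⁻¹ := by group
            _ = g * ((d : G) * u * (d : G)⁻¹) * g⁻¹ := by rw [hve, e3, ← hve]; group
            _ = _ := eg u hu
      · intro u hu
        have eg : ∀ v ∈ K, g * v * g⁻¹ = z⁻¹ * v * z := fun v hv => by simpa using hgz v hv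
        have ew : ∀ v ∈ K, w' * v * w'⁻¹ = y1 * v * y1⁻¹ := fun v hv => by simpa using hact v hv
        have ew' : ∀ v ∈ K, w'⁻¹ * v * w' = y1⁻¹ * v * y1 := fun v hv => by
          have h := ew (y1⁻¹ * v * y1) (K.mul_mem (K.mul_mem (K.inv_mem hy1) hv) hy1)
          calc _ = w'⁻¹ * (y1 * (y1⁻¹ * v * y1) * y1⁻¹) * w' := by group
            _ = _ := by rw [← h]; group
        have eg' : ∀ v ∈ K, g⁻¹ * v * g = z * v * z⁻¹ := fun v hv => by
          have h := eg (z * v * z⁻¹) (K.mul_mem (K.mul_mem hz hv) (K.inv_mem hz))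
          calc _ = g⁻¹ * (z⁻¹ * (z * v * z⁻¹) * z) * g := by group
            _ = _ := by rw [← h]; group
        have hu1 : y1⁻¹ * u * y1 ∈ K := K.mul_mem (K.mul_mem (K.inv_mem hy1) hu) hy1
        have hu2 : z * (y1⁻¹ * u * y1) * z⁻¹ ∈ K := K.mul_mem (K.mul_mem hz hu1) (K.inv_mem hz)
        simp only [one_mul, inv_one, mul_one]
        calc _ = g * (w' * (g⁻¹ * (w'⁻¹ * u * w') * g) * w'⁻¹) * g⁻¹ := by group
          _ = _ := by
            rw [ew' u hu, eg' _ hu1, ew _ hu2, eg _ (K.mul_mem (K.mul_mem hy1 hu2) (K.inv_mem hy1))]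
            group
  classical
  have := Fintype.ofFinite A
  let S : Finset A := Finset.univ.filter fun c : A => (c : G) ∉ normalizer (K : Set G)
  have hS' : ∀ c ∈ S, (c : G) ∉ normalizer (K : Set G) := fun c hc => (Finset.mem_filter.1 hc).2
  have hcent : ∀ y ∈ K, ∃ u ∈ orb K A, (∀ l ∈ orb K A, Commute u l) ∧ u * y ∈ H := by
    intro y hy
    obtain ⟨h, hh, hhy⟩ := hfull S hS' y hy
    refine ⟨h * y⁻¹, mul_mem (hHL hh.1) (inv_mem (le_orb hy)), fun l hl => commute_orb (fun c hc x hx => ?_) hl,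
      by rw [inv_mul_cancel_right]; exact hh.1⟩
    by_cases hcK : c ∈ normalizer (K : Set G)
    · have hx' := CLarge.conj_mem hcK hx
      have e := hhy _ (show y⁻¹ * (c * x * c⁻¹) * y ∈ K from K.mul_mem (K.mul_mem (K.inv_mem hy) hx') hy)
      simp only [one_mul, inv_one, mul_one] at e
      refine mul_inv_eq_iff_eq_mul.1 ?_
      calc h * y⁻¹ * (c * x * c⁻¹) * (h * y⁻¹)⁻¹ = h * (y⁻¹ * (c * x * c⁻¹) * y) * h⁻¹ := by group
        _ = _ := by rw [e]; group
    · have e := hh.2 ⟨c, hc⟩ (Finset.mem_filter.2 ⟨Finset.mem_univ _, hcK⟩) x hx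
      simp only [one_mul, inv_one, mul_one] at e
      have h2 : Commute (c * x * c⁻¹) y⁻¹ := by
        have := commute_of_ne hS (c := c) (d := 1) (by simpa using hcK) hx (inv_mem hy)
        simpa using this
      exact ((show Commute h (c * x * c⁻¹) from mul_inv_eq_iff_eq_mul.1 e).mul_left h2.symm)
  have hKH : K ≤ H := by
    rw [← Components.component_commutator_eq hS.comp, commutator_le]
    intro y hy z hz
    obtain ⟨u, huL, hu, huH⟩ := hcent y hy
    obtain ⟨v, hvL, hv, hvH⟩ := hcent z hz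
    have hm := H.mul_mem (H.mul_mem (H.mul_mem huH hvH) (H.inv_mem huH)) (H.inv_mem hvH)
    convert hm using 1
    rw [commutatorElement_def]
    have h1 : u * y * (v * z) * (u * y)⁻¹ = v * (y * z * y⁻¹) := by
      calc u * y * (v * z) * (u * y)⁻¹ = u * (y * v * z * y⁻¹) * u⁻¹ := by group
        _ = y * v * z * y⁻¹ := by
          rw [(hu _ ((orb K A).mul_mem ((orb K A).mul_mem ((orb K A).mul_mem (le_orb hy) hvL) (le_orb hz))
            ((orb K A).inv_mem (le_orb hy)))).eq, mul_inv_cancel_right]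
        _ = _ := by rw [← (hv y (le_orb hy)).eq]; group
    rw [h1]
    symm
    calc v * (y * z * y⁻¹) * (v * z)⁻¹ = v * (y * z * y⁻¹ * z⁻¹) * v⁻¹ := by group
      _ = _ := by
        rw [(hv _ (le_orb (K.mul_mem (K.mul_mem (K.mul_mem hy hz) (K.inv_mem hy)) (K.inv_mem hz)))).eq,
          mul_inv_cancel_right]
  exact orb_le fun c hc y hy => hHA c hc y (hKH hy)

end Cfsg.Agent.PGV
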