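/-
Fixed spaces and offenders of elementary abelian groups on modules over the prime field; the
replacement lemma in the form: some element annihilates all commutators.
-/
import Mathlib.RepresentationTheory.Basic
import Mathlib.LinearAlgebra.FiniteDimensional.Basic
import Mathlib.LinearAlgebra.Dual.Lemmas
import Mathlib.GroupTheory.PGroup
import Mathlib.FieldTheory.Finiteness
import Mathlib.Algebra.Field.ZMod
import Mathlib.Algebra.CharP.Lemmas
import Cfsg.Prelude.Def_Transfer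
import Cfsg.Agent.Lib.Solvable.Basic

set_option autoImplicit false

namespace Cfsg.Agent.PGV

open Subgroup

variable {G V : Type*} [Group G] [AddCommGroup V] {p : ℕ} [Fact p.Prime] [Module (ZMod p) V]
variable (ρ : Representation (ZMod p) G V)

/-- `g - 1` as an operator. -/
def nd (g : G) : Module.End (ZMod p) V := ρ g - 1

theorem nd_apply (g : G) (v : V) : nd ρ g v = ρ g v - v := by
  simp [nd]

theorem rho_eq (g : G) (v : V) : ρ g v = nd ρ g v + v := by
  simp [nd]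

/-- The fixed space of a subgroup. -/
def fix (B : Subgroup G) : Submodule (ZMod p) V where
  carrier := {v | ∀ b ∈ B, ρ b v = v}
  add_mem' := fun {u v} hu hv b hb => by rw [map_add, hu b hb, hv b hb]
  zero_mem' := fun b _ => map_zero _
  smul_mem' := fun c {v} hv b hb => by rw [map_smul, hv b hb]

theorem mem_fix {B : Subgroup G} {v : V} : v ∈ fix ρ B ↔ ∀ b ∈ B, ρ b v = v := Iff.rfl

theorem fix_anti {B D : Subgroup G} (h : B ≤ D) : fix ρ D ≤ fix ρ B := fun _ hv b hb => hv b (h hb)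

theorem mul_apply (g h : G) (v : V) : ρ (g * h) v = ρ g (ρ h v) := by
  rw [map_mul]; rfl

theorem inv_apply (g : G) (v : V) : ρ g⁻¹ (ρ g v) = v := by
  rw [← mul_apply, inv_mul_cancel, map_one]; rfl

/-- The stabiliser of a set of vectors. -/
def stab (S : Set V) : Subgroup G where
  carrier := {g | ∀ v ∈ S, ρ g v = v}
  one_mem' := fun v _ => by rw [map_one]; rfl
  mul_mem' := fun {g h} hg hh v hv => by rw [mul_apply, hh v hv, hg v hv]
  inv_mem' := fun {g} hg v hv => by conv_lhs => rw [← hg v hv]; rw [inv_apply]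

theorem mem_stab {S : Set V} {g : G} : g ∈ stab ρ S ↔ ∀ v ∈ S, ρ g v = v := Iff.rfl

theorem fix_sup {D E : Subgroup G} : fix ρ (D ⊔ E) = fix ρ D ⊓ fix ρ E := by
  refine le_antisymm (le_inf (fix_anti ρ le_sup_left) (fix_anti ρ le_sup_right)) fun v hv g hg => ?_
  have h : D ⊔ E ≤ stab ρ {v} := sup_le (fun d hd w hw => by rw [hw]; exact hv.1 d hd)
    (fun e he w hw => by rw [hw]; exact hv.2 e he)
  exact h hg v rfl

theorem apply_mem_fix {B : Subgroup G} {g : G} (hg : ∀ b ∈ B, g * b = b * g) {v : V}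
    (hv : v ∈ fix ρ B) : ρ g v ∈ fix ρ B := fun b hb => by
  rw [← mul_apply, ← hg b hb, mul_apply, hv b hb]

/-- An element of order `p` is unipotent. -/
theorem nd_pow {g : G} (hg : g ^ p = 1) : nd ρ g ^ p = 0 := by
  have h : ((Polynomial.X - 1) ^ p : Polynomial (ZMod p)) = Polynomial.X ^ p - 1 := by
    rw [sub_pow_char, one_pow]
  have h2 := congrArg (Polynomial.aeval (ρ g)) h
  simp only [map_pow, map_sub, Polynomial.aeval_X, map_one] at h2
  rw [nd, h2, ← map_pow, hg, map_one, sub_self]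

theorem nd_comm {g h : G} (e : g * h = h * g) : nd ρ g * nd ρ h = nd ρ h * nd ρ g := by
  simp only [nd, sub_mul, mul_sub, mul_one, one_mul, ← map_mul, e]
  abel

theorem nd_nd_comm {g h : G} (e : g * h = h * g) (v : V) : nd ρ g (nd ρ h v) = nd ρ h (nd ρ g v) :=
  LinearMap.congr_fun (nd_comm ρ e) v

theorem nd_rho {g h : G} (e : g * h = h * g) (v : V) : nd ρ g (ρ h v) = ρ h (nd ρ g v) := by
  simp only [nd, LinearMap.sub_apply, Module.End.one_apply, map_sub]
  rw [← mul_apply, e, mul_apply]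

/-- If a unipotent element moves a subspace onto everything modulo another, the two are equal. -/
theorem eq_of_sup_image {g : G} (hg : g ^ p = 1) {M W : Submodule (ZMod p) V} (hMW : M ≤ W)
    (hM : M.map (nd ρ g) ≤ M) (h : W.map (nd ρ g) ⊔ M = W) : M = W := by
  have key : ∀ k, W.map (nd ρ g ^ k) ⊔ M = W := by
    intro k
    induction k with
    | zero => simpa [Module.End.one_eq_id] using hMW
    | succ k ih =>
      rw [pow_succ', Module.End.mul_eq_comp, Submodule.map_comp]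
      refine le_antisymm (sup_le ?_ hMW) ?_
      · exact (Submodule.map_mono (le_sup_left.trans ih.le)).trans (le_sup_left.trans h.le)
      · conv_lhs => rw [← h, ← ih, Submodule.map_sup]
        exact sup_le (sup_le le_sup_left (hM.trans le_sup_right)) le_sup_right
  have := key p
  rwa [nd_pow ρ hg, Submodule.map_zero, bot_sup_eq] at this

/-- A commuting set of unipotent elements has a step above any invariant proper subspace. -/
theorem exists_step [Finite V] {A : Subgroup G} (hcomm : ∀ a ∈ A, ∀ b ∈ A, a * b = b * a)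
    (hexp : ∀ a ∈ A, a ^ p = 1) {M W : Submodule (ZMod p) V} (hMW : M < W)
    (hM : ∀ a ∈ A, M.map (nd ρ a) ≤ M) (hW : ∀ a ∈ A, W.map (nd ρ a) ≤ W) :
    ∃ Q, M < Q ∧ Q ≤ W ∧ (∀ a ∈ A, Q.map (nd ρ a) ≤ Q) ∧ ∀ a ∈ A, Q.map (nd ρ a) ≤ M := by
  obtain ⟨Q, -, hQ⟩ := Finite.exists_le_minimal
    (p := fun Q : Submodule (ZMod p) V => M < Q ∧ Q ≤ W ∧ ∀ a ∈ A, Q.map (nd ρ a) ≤ Q) ⟨hMW, le_rfl, hW⟩
  refine ⟨Q, hQ.1.1, hQ.1.2.1, hQ.1.2.2, fun a ha => ?_⟩
  by_contra hne
  have hle : Q.map (nd ρ a) ⊔ M ≤ Q := sup_le (hQ.1.2.2 a ha) hQ.1.1.le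
  have hcand : Q ≤ Q.map (nd ρ a) ⊔ M := hQ.2 ⟨lt_of_le_of_ne le_sup_right
      (fun h => hne (le_sup_left.trans h.ge)), hle.trans hQ.1.2.1, fun b hb => by
    rw [Submodule.map_sup, ← Submodule.map_comp, ← Module.End.mul_eq_comp, nd_comm ρ (hcomm b hb a ha),
      Module.End.mul_eq_comp, Submodule.map_comp]
    exact sup_le_sup (Submodule.map_mono (hQ.1.2.2 b hb)) (hM b hb)⟩ hle
  exact hQ.1.1.ne (eq_of_sup_image ρ (hexp a ha) hQ.1.1.le (hM a ha) (le_antisymm hle hcand))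

theorem map_nd_fix {A B : Subgroup G} (hcomm : ∀ a ∈ A, ∀ b ∈ B, a * b = b * a) {a : G} (ha : a ∈ A) :
    (fix ρ B).map (nd ρ a) ≤ fix ρ B := by
  rintro _ ⟨v, hv, rfl⟩
  rw [nd_apply]
  exact sub_mem (apply_mem_fix ρ (hcomm a ha) hv) hv

/-- The measure of a subgroup. -/
noncomputable def meas (B : Subgroup G) : ℕ := Nat.card B * Nat.card (fix ρ B)

variable [Finite G] [Finite V]

theorem card_submodule_sup_inf (S T : Submodule (ZMod p) V) :
    Nat.card (S ⊔ T : Submodule (ZMod p) V) * Nat.card (S ⊓ T : Submodule (ZMod p) V) =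
      Nat.card S * Nat.card T := by
  rw [Module.natCard_eq_pow_finrank (K := ZMod p) (V := (S ⊔ T : Submodule (ZMod p) V)),
    Module.natCard_eq_pow_finrank (K := ZMod p) (V := (S ⊓ T : Submodule (ZMod p) V)),
    Module.natCard_eq_pow_finrank (K := ZMod p) (V := S), Module.natCard_eq_pow_finrank (K := ZMod p) (V := T),
    ← pow_add, ← pow_add, Submodule.finrank_sup_add_finrank_inf_eq]

theorem meas_sup_inf {A D E : Subgroup G} (hcomm : ∀ a ∈ A, ∀ b ∈ A, a * b = b * a) (hD : D ≤ A) (hE : E ≤ A) :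
    meas ρ D * meas ρ E * Nat.card (fix ρ (D ⊓ E)) =
      meas ρ (D ⊔ E) * meas ρ (D ⊓ E) * Nat.card (fix ρ D ⊔ fix ρ E : Submodule (ZMod p) V) := by
  have hn : E ≤ normalizer (D : Set G) := le_trans (fun e he => mem_centralizer_iff.2 fun d hd =>
    hcomm d (hD hd) e (hE he)) (centralizer_le_normalizer _)
  have h1 := SolvBasic.card_sup_mul_card_inf hn
  have h2 := card_submodule_sup_inf (fix ρ D) (fix ρ E)
  rw [← fix_sup] at h2
  simp only [meas]
  calc _ = (Nat.card D * Nat.card E) * (Nat.card (fix ρ D) * Nat.card (fix ρ E)) * Nat.card (fix ρ (D ⊓ E)) := by ring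
    _ = _ := by rw [← h1, ← h2]; ring

/-- The key counting of the replacement. -/
theorem meas_stab {A B0 : Subgroup G} (hcomm : ∀ a ∈ A, ∀ b ∈ A, a * b = b * a) (hB : B0 ≤ A)
    (hmax : ∀ D, B0 ≤ D → D ≤ A → meas ρ D ≤ meas ρ A) {v : V} (hv : v ∈ fix ρ B0) :
    let X := A ⊓ stab ρ {w | ∃ a ∈ A, w = nd ρ a v}
    B0 ≤ X ∧ meas ρ X = meas ρ A ∧ ∀ w ∈ fix ρ X, ∃ a ∈ A, ∃ c ∈ fix ρ A, w = nd ρ a v + c := by
  classical
  intro X
  have hmem : ∀ a ∈ A, ∀ c ∈ fix ρ A, nd ρ a v + c ∈ fix ρ X := fun a ha c hc x hx => by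
    rw [map_add, hc x hx.1, hx.2 _ ⟨a, ha, rfl⟩]
  have hB0 : B0 ≤ X := le_inf hB fun b hb w ⟨a, ha, e⟩ => by
    rw [e]
    exact map_nd_fix ρ (A := A) (fun a ha c hc => hcomm a ha c (hB hc)) ha ⟨v, hv, rfl⟩ b hb
  let f : (A ⧸ X.subgroupOf A) × fix ρ A → fix ρ X := fun q =>
    ⟨nd ρ (q.1.out : G) v + (q.2 : V), hmem _ q.1.out.2 _ q.2.2⟩
  have hf : Function.Injective f := by
    rintro ⟨q, c⟩ ⟨q', c'⟩ h
    have h' : nd ρ (q.out : G) v + (c : V) = nd ρ (q'.out : G) v + (c' : V) := congrArg Subtype.val h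
    have hq : q = q' := by
      rw [← QuotientGroup.out_eq' q, ← QuotientGroup.out_eq' q', QuotientGroup.eq]
      refine mem_subgroupOf.2 ⟨(q.out⁻¹ * q'.out).2, ?_⟩
      rintro w ⟨x, hx, rfl⟩
      have hd : nd ρ x (nd ρ (q.out : G) v) = nd ρ x (nd ρ (q'.out : G) v) := by
        have h1 : nd ρ x (c : V) = 0 := by rw [nd_apply, c.2 x hx, sub_self]
        have h2 : nd ρ x (c' : V) = 0 := by rw [nd_apply, c'.2 x hx, sub_self]
        have := congrArg (nd ρ x) h'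
        rwa [map_add, map_add, h1, h2, add_zero, add_zero] at this
      rw [nd_nd_comm ρ (hcomm x hx _ q.out.2), nd_nd_comm ρ (hcomm x hx _ q'.out.2)] at hd
      have he : ρ (q.out : G) (nd ρ x v) = ρ (q'.out : G) (nd ρ x v) := by
        rw [rho_eq, rho_eq ρ (q'.out : G), hd]
      push_cast
      rw [mul_apply, ← he, inv_apply]
    subst hq
    exact Prod.ext rfl (Subtype.ext (add_left_cancel h'))
  have hcard : Nat.card (A ⧸ X.subgroupOf A) * Nat.card X = Nat.card A := by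
    rw [← Nat.card_congr (subgroupOfEquivOfLe (inf_le_left : X ≤ A)).toEquiv]
    exact ((X.subgroupOf A).card_eq_card_quotient_mul_card_subgroup).symm
  have h1 := Nat.card_le_card_of_injective f hf
  rw [Nat.card_prod] at h1
  have h2 := hmax X hB0 inf_le_left
  have h3 : meas ρ A = Nat.card (A ⧸ X.subgroupOf A) * Nat.card (fix ρ A) * Nat.card X := by
    rw [meas, ← hcard]; ring
  have h4 : meas ρ X = Nat.card (fix ρ X) * Nat.card X := mul_comm _ _
  have h5 := Nat.mul_le_mul_right (Nat.card X) h1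
  refine ⟨hB0, by omega, fun w hw => ?_⟩
  have h6 : Nat.card (fix ρ X) ≤ Nat.card (A ⧸ X.subgroupOf A) * Nat.card (fix ρ A) :=
    Nat.le_of_mul_le_mul_right (show Nat.card (fix ρ X) * Nat.card X ≤
      Nat.card (A ⧸ X.subgroupOf A) * Nat.card (fix ρ A) * Nat.card X by omega) Nat.card_pos
  have hsurj : Function.Surjective f := (hf.bijective_of_nat_card_le (by rwa [Nat.card_prod])).2
  obtain ⟨⟨q, c⟩, hq⟩ := hsurj ⟨w, hw⟩
  exact ⟨_, q.out.2, c, c.2, (congrArg Subtype.val hq).symm⟩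

/-- Replacement: some element of `A` outside `B0` kills all commutators on the fixed space of `B0`. -/
theorem exists_annihilator {A B0 : Subgroup G} (hcomm : ∀ a ∈ A, ∀ b ∈ A, a * b = b * a)
    (hexp : ∀ a ∈ A, a ^ p = 1) (hB : B0 ≤ A) (hmax : ∀ D, B0 ≤ D → D ≤ A → meas ρ D ≤ meas ρ A)
    (hne : ¬ fix ρ B0 ≤ fix ρ A) :
    ∃ e ∈ A, e ∉ B0 ∧ ∀ a ∈ A, ∀ v ∈ fix ρ B0, nd ρ e (nd ρ a v) = 0 := by
  set W := fix ρ B0
  let S : Submodule (ZMod p) V := Submodule.span (ZMod p) {w | ∃ v ∈ W, ∃ a ∈ A, w = nd ρ a v} ⊔ fix ρ A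
  let T : Subgroup G → Prop := fun D => B0 ≤ D ∧ D ≤ A ∧ meas ρ D = meas ρ A ∧ fix ρ D ≤ S
  have hTA : T A := ⟨hB, le_rfl, rfl, le_sup_right⟩
  have hTinf : ∀ D E, T D → T E → T (D ⊓ E) := by
    rintro D E ⟨h1, h2, h3, h4⟩ ⟨h5, h6, h7, h8⟩
    have hsub : fix ρ D ⊔ fix ρ E ≤ fix ρ (D ⊓ E) := sup_le (fix_anti ρ inf_le_left) (fix_anti ρ inf_le_right)
    have hm := meas_sup_inf ρ hcomm h2 h6
    rw [h3, h7] at hm
    have hs := hmax (D ⊔ E) (h1.trans le_sup_left) (sup_le h2 h6)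
    have hi := hmax (D ⊓ E) (le_inf h1 h5) (inf_le_left.trans h2)
    have hpos : 0 < meas ρ A := Nat.mul_pos Nat.card_pos Nat.card_pos
    have hc : Nat.card (fix ρ (D ⊓ E)) ≤ Nat.card (fix ρ D ⊔ fix ρ E : Submodule (ZMod p) V) := by
      refine Nat.le_of_mul_le_mul_left ?_ (Nat.mul_pos hpos hpos)
      rw [hm]
      exact Nat.mul_le_mul_right _ (Nat.mul_le_mul hs hi)
    have heq : fix ρ D ⊔ fix ρ E = fix ρ (D ⊓ E) := by
      refine SetLike.coe_injective (Set.eq_of_subset_of_ncard_le hsub ?_ (Set.toFinite _))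
      rw [← Nat.card_coe_set_eq, ← Nat.card_coe_set_eq]
      exact hc
    refine ⟨le_inf h1 h5, inf_le_left.trans h2, le_antisymm hi ?_, heq ▸ sup_le h4 h8⟩
    rw [heq] at hm
    have hm' := Nat.eq_of_mul_eq_mul_right Nat.card_pos hm
    by_contra hlt
    have := Nat.mul_le_mul hs (le_refl (meas ρ (D ⊓ E)))
    have := Nat.mul_lt_mul_of_pos_left (not_le.1 hlt) hpos
    omega
  obtain ⟨M, -, hM⟩ := Finite.exists_le_minimal (p := T) hTA
  have hMX : ∀ v ∈ W, M ≤ stab ρ {w | ∃ a ∈ A, w = nd ρ a v} := by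
    intro v hv
    obtain ⟨h1, h2, h3⟩ := meas_stab ρ hcomm hB hmax hv
    have hTX : T (A ⊓ stab ρ {w | ∃ a ∈ A, w = nd ρ a v}) := ⟨h1, inf_le_left, h2, fun w hw => by
      obtain ⟨a, ha, c, hc, rfl⟩ := h3 w hw
      exact add_mem (Submodule.mem_sup_left (Submodule.subset_span ⟨v, hv, a, ha, rfl⟩))
        (Submodule.mem_sup_right hc)⟩
    exact (hM.2 (hTinf _ _ hM.1 hTX) inf_le_left).trans (inf_le_right.trans inf_le_right)
  have hkill : ∀ e ∈ M, ∀ a ∈ A, ∀ v ∈ W, nd ρ e (nd ρ a v) = 0 := fun e he a ha v hv => by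
    rw [nd_apply, hMX v hv he _ ⟨a, ha, rfl⟩, sub_self]
  by_contra hno
  push Not at hno
  have hMB : M = B0 := by
    refine le_antisymm (fun e he => ?_) hM.1.1
    by_contra heB
    obtain ⟨a, ha, v, hv, h⟩ := hno e (hM.1.2.1 he) heB
    exact h (hkill e he a ha v hv)
  have hWS : W ≤ S := by
    have h := hM.1.2.2.2
    rw [hMB] at h
    exact h
  -- a maximal proper invariant subspace gives a contradiction
  have hWinv : ∀ a ∈ A, W.map (nd ρ a) ≤ W := fun a ha =>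
    map_nd_fix ρ (A := A) (fun a ha b hb => hcomm a ha b (hB hb)) ha
  have hAfix : ∀ a ∈ A, (fix ρ A).map (nd ρ a) ≤ fix ρ A := fun a ha => map_nd_fix ρ hcomm ha
  have hlt : fix ρ A < W := lt_of_le_of_ne (fix_anti ρ hB) fun h => hne h.ge
  obtain ⟨M0, hM0⟩ := Finite.exists_le_maximal
    (p := fun N : Submodule (ZMod p) V => fix ρ A ≤ N ∧ N < W ∧ ∀ a ∈ A, N.map (nd ρ a) ≤ N) ⟨le_rfl, hlt, hAfix⟩
  obtain ⟨Q, hQ1, hQ2, hQ3, hQ4⟩ := exists_step ρ hcomm hexp hM0.2.1.2.1 hM0.2.1.2.2 hWinv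
  have hQW : Q = W := by
    by_contra hne'
    exact not_le_of_gt hQ1 (hM0.2.2 ⟨hM0.2.1.1.trans hQ1.le, lt_of_le_of_ne hQ2 hne', hQ3⟩ hQ1.le)
  subst hQW
  refine not_le_of_gt hM0.2.1.2.1 (hWS.trans (sup_le (Submodule.span_le.2 ?_) hM0.2.1.1))
  rintro _ ⟨v, hv, a, ha, rfl⟩
  exact hQ4 a ha ⟨v, hv, rfl⟩

/-- Thompson's product lemma: a `p'`-element commuting with `B` and fixing its fixed points is trivial. -/
theorem trivial_of_fix {B : Subgroup G} (hcomm : ∀ a ∈ B, ∀ b ∈ B, a * b = b * a) (hexp : ∀ b ∈ B, b ^ p = 1)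
    {g : G} (hg : ∀ b ∈ B, g * b = b * g) (hord : (orderOf g).Coprime p)
    (hW : ∀ v ∈ fix ρ B, ρ g v = v) : ρ g = 1 := by
  let M := LinearMap.ker (nd ρ g)
  have hM : ∀ b ∈ B, M.map (nd ρ b) ≤ M := by
    rintro b hb _ ⟨v, hv, rfl⟩
    rw [SetLike.mem_coe, LinearMap.mem_ker] at hv
    rw [LinearMap.mem_ker, nd_nd_comm ρ (hg b hb), hv, map_zero]
  rcases eq_or_ne M ⊤ with htop | htop
  · refine LinearMap.ext fun v => ?_
    have h : v ∈ M := htop ▸ Submodule.mem_top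
    rw [LinearMap.mem_ker, nd_apply, sub_eq_zero] at h
    simpa using h
  obtain ⟨Q, hQ1, -, -, hQ4⟩ := exists_step ρ hcomm hexp (lt_top_iff_ne_top.2 htop) hM (fun _ _ => le_top)
  obtain ⟨v, hvQ, hvM⟩ := SetLike.exists_of_lt hQ1
  exfalso
  apply hvM
  obtain ⟨u, hu⟩ : ∃ u, u = nd ρ g v := ⟨_, rfl⟩
  have huW : u ∈ fix ρ B := fun b hb => by
    have h := hQ4 b hb ⟨v, hvQ, rfl⟩
    rw [LinearMap.mem_ker, nd_nd_comm ρ (hg b hb), ← hu, nd_apply, sub_eq_zero] at h
    exact h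
  have hgu : ρ g u = u := hW u huW
  have hpow : ∀ n : ℕ, ρ (g ^ n) v = v + n • u := by
    intro n
    induction n with
    | zero => simp
    | succ n ih =>
      rw [pow_succ', mul_apply, ih, map_add, map_nsmul, hgu, rho_eq, ← hu, succ_nsmul]
      abel
  have h := hpow (orderOf g)
  rw [pow_orderOf_eq_one, map_one, Module.End.one_apply, left_eq_add] at h
  have hp : ((orderOf g : ℕ) : ZMod p) ≠ 0 := fun h0 => by
    rw [ZMod.natCast_eq_zero_iff] at h0
    exact (Fact.out : p.Prime).ne_one (Nat.eq_one_of_dvd_coprimes hord h0 dvd_rfl)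
  rw [← Nat.cast_smul_eq_nsmul (ZMod p), smul_eq_zero] at h
  rw [LinearMap.mem_ker, ← hu]
  exact h.resolve_left hp

end Cfsg.Agent.PGV
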