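/-
The P(G,V)-theorem: a best offender normalises every component.
-/
import Cfsg.Agent.Lib.PGV.Modules
import Cfsg.Agent.Lib.PGV.Groups
import Cfsg.Agent.Lib.Char.Burnside
import Cfsg.Agent.Lib.Transfer.Basic

set_option autoImplicit false

namespace Cfsg.Agent.PGV

open Subgroup
open scoped commutatorElement

variable {G V : Type*} [Group G] [AddCommGroup V] {p : ℕ} [Fact p.Prime] [Module (ZMod p) V]
variable (ρ : Representation (ZMod p) G V) (K A : Subgroup G)

/-- The elements of `A` centralising the join of the conjugates of `K`. -/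
abbrev kerA : Subgroup G := A ⊓ centralizer (orb K A : Set G)

/-- The fixed space of the kernel. -/
abbrev wsp : Submodule (ZMod p) V := fix ρ (kerA K A)

/-- The commutator of that space with the join. -/
def usp : Submodule (ZMod p) V :=
  Submodule.span (ZMod p) {u | ∃ l ∈ orb K A, ∃ w ∈ wsp ρ K A, u = nd ρ l w}

/-- Elements acting on both spaces. -/
abbrev good : Subgroup G := centralizer (kerA K A : Set G) ⊓ normalizer (orb K A : Set G)

/-- The fixed points of `a` on the commutator space. -/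
abbrev ufix (a : G) : Submodule (ZMod p) V := usp ρ K A ⊓ LinearMap.ker (nd ρ a)

variable {K A} {ρ}

theorem nd_mul (g h : G) (v : V) : nd ρ (g * h) v = nd ρ g (ρ h v) + nd ρ h v := by
  simp only [nd_apply, mul_apply]; abel

theorem nd_inv (g : G) (v : V) : nd ρ g⁻¹ v = -nd ρ g (ρ g⁻¹ v) := by
  simp only [nd_apply]
  rw [← mul_apply, mul_inv_cancel, map_one]
  simp

theorem nd_conj (g h : G) (v : V) : ρ g (nd ρ h v) = nd ρ (g * h * g⁻¹) (ρ g v) := by
  simp [nd_apply, mul_apply, inv_apply]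

theorem A_le_good (hS : Setting K A p) : A ≤ good K A := le_inf
  (fun a ha => mem_centralizer_iff.2 fun b hb => hS.comm b hb.1 a ha) A_le_normalizer_orb

theorem orb_le_good : orb K A ≤ good K A := le_inf (le_centralizer_iff.1 inf_le_right) le_normalizer

theorem mem_wsp {g : G} (hg : g ∈ good K A) {v : V} (hv : v ∈ wsp ρ K A) : ρ g v ∈ wsp ρ K A :=
  apply_mem_fix ρ (fun b hb => (mem_centralizer_iff.1 hg.1 b hb).symm) hv

theorem nd_mem_usp {l : G} (hl : l ∈ orb K A) {w : V} (hw : w ∈ wsp ρ K A) : nd ρ l w ∈ usp ρ K A :=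
  Submodule.subset_span ⟨l, hl, w, hw, rfl⟩

theorem usp_le : usp ρ K A ≤ wsp ρ K A := Submodule.span_le.2 (by
  rintro _ ⟨l, hl, w, hw, rfl⟩
  rw [SetLike.mem_coe, nd_apply]
  exact sub_mem (mem_wsp (orb_le_good hl) hw) hw)

theorem mem_usp {g : G} (hg : g ∈ good K A) {u : V} (hu : u ∈ usp ρ K A) : ρ g u ∈ usp ρ K A := by
  have h : usp ρ K A ≤ (usp ρ K A).comap (ρ g) := Submodule.span_le.2 (by
    rintro _ ⟨l, hl, w, hw, rfl⟩
    rw [SetLike.mem_coe, Submodule.mem_comap, nd_conj]
    exact nd_mem_usp (CLarge.conj_mem hg.2 hl) (mem_wsp hg hw))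
  exact h hu

theorem nd_usp {g : G} (hg : g ∈ good K A) {u : V} (hu : u ∈ usp ρ K A) : nd ρ g u ∈ usp ρ K A := by
  rw [nd_apply]; exact sub_mem (mem_usp hg hu) hu

variable (ρ K A) in
/-- The action on the commutator space. -/
noncomputable def act : good K A →* Module.End (ZMod p) (usp ρ K A) where
  toFun g := (ρ (g : G)).restrict fun _ hu => mem_usp g.2 hu
  map_one' := by ext u; simp
  map_mul' g h := by ext u; simp

theorem act_apply (g : good K A) (u : usp ρ K A) : ((act ρ K A g u : usp ρ K A) : V) = ρ (g : G) u := rfl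

variable [Finite G] [Finite V]

theorem eq_one_of_fix (hρ : Function.Injective ρ) (hS : Setting K A p) {g : G} (hg : g ∈ orb K A)
    (hord : (orderOf g).Coprime p) (hfix : ∀ v ∈ wsp ρ K A, ρ g v = v) : g = 1 :=
  hρ ((trivial_of_fix ρ (B := kerA K A) (fun a ha b hb => hS.comm a ha.1 b hb.1) (fun a ha => hS.exp a ha.1)
    (fun b hb => mem_centralizer_iff.1 hb.2 g hg) hord hfix).trans (map_one ρ).symm)

/-- Elements of the join trivial on the commutator space centralise `K`. -/
theorem commute_of_trivial (hρ : Function.Injective ρ) (hS : Setting K A p) {g : G} (hg : g ∈ orb K A)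
    (h : ∀ u ∈ usp ρ K A, ρ g u = u) {x : G} (hx : x ∈ K) : Commute g x := by
  set N := orb K A ⊓ stab ρ (usp ρ K A : Set V)
  have hn : K ≤ normalizer (N : Set G) := le_orb.trans <| CLarge.le_normalizer_of_forall fun l hl n hn =>
    ⟨(orb K A).mul_mem ((orb K A).mul_mem hl hn.1) ((orb K A).inv_mem hl), fun u hu => by
      rw [mul_apply, mul_apply, hn.2 _ (mem_usp (orb_le_good ((orb K A).inv_mem hl)) hu), ← mul_apply,
        mul_inv_cancel, map_one]
      rfl⟩
  have hone : ∀ g ∈ N, ∀ u ∈ usp ρ K A, nd ρ g u = 0 := fun g hg u hu => by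
    rw [nd_apply, hg.2 u hu, sub_self]
  have hsolv : Group.IsSolvable N := by
    let R : Subgroup N := (stab ρ (wsp ρ K A : Set V)).subgroupOf N
    have hR : IsPGroup p R := by
      rw [PBasic.isPGroup_iff_forall_coprime]
      intro r hr
      refine Subtype.ext (Subtype.ext (eq_one_of_fix (G := G) hρ hS (r : N).2.1 ?_ (mem_subgroupOf.1 r.2)))
      rwa [Subgroup.orderOf_coe, Subgroup.orderOf_coe]
    have hc : commutator N ≤ R := by
      rw [commutator_def, Subgroup.commutator_le]
      intro a _ b _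
      refine mem_subgroupOf.2 fun v hv => ?_
      have key : ∀ {c d : G}, c ∈ N → d ∈ N → ∀ w ∈ wsp ρ K A, ρ (c * d) w = nd ρ c w + nd ρ d w + w := by
        intro c d hc hd w hw
        rw [mul_apply, rho_eq ρ d w, map_add, rho_eq ρ c (nd ρ d w), rho_eq ρ c w,
          hone c hc _ (nd_mem_usp hd.1 hw)]
        abel
      have hw : ρ (((b : G) * (a : G))⁻¹) v ∈ wsp ρ K A :=
        mem_wsp (orb_le_good ((orb K A).inv_mem ((orb K A).mul_mem b.2.1 a.2.1))) hv
      rw [show ((⁅a, b⁆ : N) : G) = ((a : G) * (b : G)) * ((b : G) * (a : G))⁻¹ by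
          simp [commutatorElement_def, mul_assoc], mul_apply, key a.2 b.2 _ hw, add_comm (nd ρ (a : G) _),
        ← key b.2 a.2 _ hw, ← mul_apply, mul_inv_cancel, map_one]
      rfl
    have : Group.IsNilpotent (commutator N) := (hR.to_le hc).isNilpotent
    exact Group.isSolvable_of_ker_le_range (commutator N).subtype Abelianization.of
      (by rw [Abelianization.ker_of, Subgroup.range_subtype])
  have h1 := Components.component_commute_solvable hS.comp hsolv hn
  exact mem_centralizer_iff.1 (commutator_eq_bot_iff_le_centralizer.1 h1 hx) g ⟨hg, h⟩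

theorem card_le_of_lt {S T : Submodule (ZMod p) V} (h : S < T) : Nat.card S * p ≤ Nat.card T := by
  rw [Module.natCard_eq_pow_finrank (K := ZMod p) (V := S), Module.natCard_eq_pow_finrank (K := ZMod p) (V := T),
    Nat.card_zmod, ← pow_succ]
  exact Nat.pow_le_pow_right (Fact.out : p.Prime).pos (Submodule.finrank_lt_finrank_of_lt h)

theorem exists_element (hS : Setting K A p) :
    ∃ t ∈ K, (orderOf t).Coprime p ∧ (p = 2 → (orderOf t).Coprime 6) ∧ ∃ x ∈ K, ¬ Commute x t := by
  have hp : p.Prime := Fact.out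
  have hsimp : IsSimpleGroup (K ⧸ center K) := hS.comp.2.2
  have hnsol : ¬ Group.IsSolvable (K ⧸ center K) := fun h => by
    apply Components.quasisimple_not_solvable hS.comp.2
    open scoped IsMulCommutative in
    exact Group.isSolvable_of_ker_le_range (center K).subtype (QuotientGroup.mk' (center K))
      (by rw [QuotientGroup.ker_mk', Subgroup.range_subtype])
  obtain ⟨r, hr, hr2⟩ : ∃ r : ℕ, r.Prime ∧ (p = 2 → r = 3) := by
    by_cases h : p = 2
    · exact ⟨3, Nat.prime_three, fun _ => rfl⟩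
    · exact ⟨2, Nat.prime_two, fun h' => absurd h' h⟩
  obtain ⟨q, hq, hqd, hqp, hqr⟩ : ∃ q, q.Prime ∧ q ∣ Nat.card (K ⧸ center K) ∧ q ≠ p ∧ q ≠ r := by
    by_contra h
    push Not at h
    refine hnsol (Char.isSolvable_of_card_pq p r hp hr _ (K ⧸ center K) rfl ?_)
    obtain ⟨a, m, hm, hm'⟩ := Nat.exists_eq_pow_mul_and_not_dvd (Nat.card_pos (α := K ⧸ center K)).ne' p hp.ne_one
    obtain ⟨b, k, hk, hk'⟩ := Nat.exists_eq_pow_mul_and_not_dvd (n := m) (by rintro rfl; simp at hm) r hr.ne_one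
    refine ⟨a, b, ?_⟩
    have : k = 1 := by
      by_contra hk1
      obtain ⟨q, hq, hqk⟩ := Nat.exists_prime_and_dvd hk1
      have hqr : q = r := h q hq (by rw [hm', hk']; exact (hqk.mul_left _).mul_left _) (fun e => hm (by rw [← e, hk']; exact hqk.mul_left _))
      exact hk (hqr ▸ hqk)
    rw [hm', hk', this, mul_one]
  have : Fact q.Prime := ⟨hq⟩
  obtain ⟨z, hz⟩ := exists_prime_orderOf_dvd_card' (G := K ⧸ center K) q hqd
  obtain ⟨g, rfl⟩ := QuotientGroup.mk'_surjective (center K) z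
  obtain ⟨u, w, huw, -, -, ⟨j, hj⟩, hw⟩ := PBasic.exists_pPart_mul (p := q) g
  have hwc : QuotientGroup.mk' (center K) w = 1 ∨ u ∉ center K := by
    by_cases hu : u ∈ center K
    · left
      refine orderOf_eq_one_iff.1 (Nat.eq_one_of_dvd_coprimes hw (orderOf_map_dvd _ w) ?_)
      rw [← hz, ← huw, map_mul, show QuotientGroup.mk' (center K) u = 1 from (QuotientGroup.eq_one_iff u).2 hu, one_mul]
    · exact Or.inr hu
  have hu : u ∉ center K := by
    rcases hwc with h | h
    · intro hu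
      rw [← huw, map_mul, h, show QuotientGroup.mk' (center K) u = 1 from (QuotientGroup.eq_one_iff u).2 hu,
        one_mul, orderOf_one] at hz
      exact hq.ne_one hz.symm
    · exact h
  refine ⟨u, u.2, ?_, fun h2 => ?_, ?_⟩
  · rw [Subgroup.orderOf_coe, hj]; exact Nat.Coprime.pow_left _ ((Nat.coprime_primes hq hp).2 hqp)
  · rw [Subgroup.orderOf_coe, hj]
    refine Nat.Coprime.pow_left _ ?_
    rw [show (6 : ℕ) = 2 * 3 by norm_num]
    exact Nat.Coprime.mul_right ((Nat.coprime_primes hq Nat.prime_two).2 (h2 ▸ hqp))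
      ((Nat.coprime_primes hq Nat.prime_three).2 (hr2 h2 ▸ hqr))
  · by_contra h
    push Not at h
    exact hu (mem_center_iff.2 fun x => Subtype.ext (h x x.2).eq)

omit [Fact p.Prime] in
/-- A unipotent conjugate commuting with a semisimple element fixes it. -/
theorem ring_lemma {R : Type*} [Ring R] {T N : R} {n : ℕ}
    (htwo : ∀ r : R, r + r = 0 → r = 0) (hn : ∀ r : R, n • r = 0 → r = 0) (hT : T ^ n = 1) (hN : N * N = 0)
    (h1 : T * ((1 + N) * T * (1 - N)) = (1 + N) * T * (1 - N) * T)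
    (h2 : T * ((1 + (N + N)) * T * (1 - (N + N))) = (1 + (N + N)) * T * (1 - (N + N)) * T) :
    (1 + N) * T * (1 - N) = T := by
  obtain ⟨X, hX⟩ : ∃ X, X = N * T - T * N := ⟨_, rfl⟩
  obtain ⟨Y, hY⟩ : ∃ Y, Y = N * T * N := ⟨_, rfl⟩
  have e1 : T * X - X * T - (T * Y - Y * T) = 0 := by
    have h := sub_eq_zero.2 h1
    rw [← h, hX, hY]
    noncomm_ring
  have e2 : T * X - X * T + (T * X - X * T) -
      ((T * Y - Y * T) + (T * Y - Y * T) + ((T * Y - Y * T) + (T * Y - Y * T))) = 0 := by
    have h := sub_eq_zero.2 h2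
    rw [← h, hX, hY]
    noncomm_ring
  have e3 : T * Y - Y * T = 0 := htwo _ (neg_eq_zero.1 (by
    rw [sub_eq_zero.1 e1] at e2
    rw [← e2]
    abel))
  have hcomm : X * T = T * X := by rw [e3, sub_zero, sub_eq_zero] at e1; exact e1.symm
  have hk : ∀ k, N * T ^ (k + 1) = T ^ (k + 1) * N + (k + 1) • (T ^ k * X) := by
    intro k
    induction k with
    | zero => simp [hX]
    | succ k ih =>
      rw [pow_succ T (k + 1), ← mul_assoc, ih, add_mul, smul_mul_assoc, mul_assoc (T ^ k), hcomm, ← mul_assoc,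
        ← pow_succ, mul_assoc (T ^ (k + 1)), show N * T = T * N + X by rw [hX]; abel, mul_add, ← mul_assoc,
        succ_nsmul (T ^ (k + 1) * X) (k + 1)]
      abel
  have hX0 : X = 0 := by
    rcases n with _ | m
    · exact hn X (zero_nsmul X)
    have h := hk m
    rw [hT, mul_one, one_mul, left_eq_add] at h
    have h' := congrArg (T * ·) (hn _ h)
    simp only [← mul_assoc, ← pow_succ', hT, one_mul, mul_zero] at h'
    exact h'
  rw [hX, sub_eq_zero] at hX0
  rw [add_mul, one_mul, hX0, add_mul, mul_assoc T, mul_sub, mul_sub, mul_one, mul_one, hN, sub_zero]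
  abel

theorem quad_core (hρ : Function.Injective ρ) (hS : Setting K A p) {a : G} (ha : a ∈ A)
    (haK : a ∉ normalizer (K : Set G))
    (hquad : ∀ u ∈ usp ρ K A, nd ρ a (nd ρ a u) = 0)
    (hsmall : p = 2 → Nat.card (usp ρ K A) ≤ Nat.card (ufix ρ K A a) * p) : False := by
  have hp : p.Prime := Fact.out
  set U := usp ρ K A
  set F := ufix ρ K A a with hF
  obtain ⟨t, ht, htp, ht6, x, hx, hxt⟩ := exists_element hS
  have hsep : ∀ m, ¬ p ∣ m → Commute (a ^ m * t * (a ^ m)⁻¹) t := fun m hm => by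
    have h : (1 : G)⁻¹ * a ^ m ∉ normalizer (K : Set G) := by simpa using not_mem_normalizer_pow hp hS ha haK hm
    simpa using commute_of_ne hS h ht ht
  have hsx : Commute (a * t * a⁻¹) x := by
    have h : (1 : G)⁻¹ * a ∉ normalizer (K : Set G) := by simpa using haK
    simpa using commute_of_ne hS h ht hx
  have htL : t ∈ orb K A := le_orb ht
  have hsL : a * t * a⁻¹ ∈ orb K A := conj_mem_orb ha ht
  suffices H : ∀ u ∈ U, ρ (t⁻¹ * (a * t * a⁻¹)) u = u by
    apply hxt
    have h := commute_of_trivial hρ hS (mul_mem (inv_mem htL) hsL) H hx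
    have h2 : Commute t⁻¹ x := by
      have := h.mul_left hsx.inv_left
      rwa [mul_inv_cancel_right] at this
    simpa using h2.inv_left.symm
  let a' : good K A := ⟨a, A_le_good hS ha⟩
  let t' : good K A := ⟨t, orb_le_good htL⟩
  obtain ⟨Tf, hTf⟩ : ∃ T, T = act ρ K A t' := ⟨_, rfl⟩
  obtain ⟨N, hN⟩ : ∃ N, N = act ρ K A a' - 1 := ⟨_, rfl⟩
  suffices H : act ρ K A (t'⁻¹ * (a' * t' * a'⁻¹)) = 1 by
    intro u hu
    exact congrArg Subtype.val (LinearMap.congr_fun H ⟨u, hu⟩)
  have hA : act ρ K A a' = 1 + N := by rw [hN]; abel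
  have hN2 : N * N = 0 := by
    refine LinearMap.ext fun u => Subtype.ext ?_
    have := hquad u u.2
    rw [hN]
    simp only [Module.End.mul_apply, LinearMap.sub_apply, Module.End.one_apply, LinearMap.zero_apply,
      AddSubgroupClass.coe_sub, act_apply, ZeroMemClass.coe_zero, map_sub]
    rw [nd_apply, nd_apply, map_sub] at this
    exact this
  have hAi : act ρ K A a'⁻¹ = 1 - N := by
    have h1 : act ρ K A a'⁻¹ * act ρ K A a' = 1 := by rw [← map_mul, inv_mul_cancel, map_one]
    calc act ρ K A a'⁻¹ = act ρ K A a'⁻¹ * ((1 + N) * (1 - N)) := by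
          rw [show (1 + N) * (1 - N) = 1 - N * N by noncomm_ring, hN2, sub_zero, mul_one]
      _ = _ := by rw [← hA, ← mul_assoc, h1, one_mul]
  have hTn : Tf ^ orderOf t = 1 := by
    rw [hTf, ← map_pow, show t' ^ orderOf t = 1 from Subtype.ext (pow_orderOf_eq_one t), map_one]
  by_cases hp2 : p = 2
  · subst hp2
    obtain ⟨y, hy⟩ : ∃ y, y = t'⁻¹ * (a' * t' * a'⁻¹) := ⟨_, rfl⟩
    rw [← hy]
    have hyn : (act ρ K A y) ^ orderOf t = 1 := by
      rw [← map_pow, show y ^ orderOf t = 1 from ?_, map_one]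
      apply Subtype.ext
      rw [hy]
      have hc : Commute t⁻¹ (a * t * a⁻¹) := (by simpa using (hsep 1 (by norm_num)).symm : Commute t (a * t * a⁻¹)).inv_left
      push_cast
      show (t⁻¹ * (a * t * a⁻¹)) ^ orderOf t = 1
      rw [hc.mul_pow, inv_pow, conj_pow, pow_orderOf_eq_one]; simp
    obtain ⟨D, hD⟩ : ∃ D, D = act ρ K A y - 1 := ⟨_, rfl⟩
    -- `y` fixes a subspace of index at most four
    let Fu : Submodule (ZMod 2) U := F.comap U.subtype
    let C : Submodule (ZMod 2) U := Fu ⊓ Fu.comap Tf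
    have hFu : Nat.card Fu = Nat.card F := Nat.card_congr (Submodule.comapSubtypeEquivOfLe inf_le_left).toEquiv
    have hTbij : Function.Bijective Tf := by
      rw [hTf]
      exact Function.bijective_iff_has_inverse.2 ⟨act ρ K A t'⁻¹,
        fun u => by rw [← Module.End.mul_apply, ← map_mul, inv_mul_cancel, map_one]; rfl,
        fun u => by rw [← Module.End.mul_apply, ← map_mul, mul_inv_cancel, map_one]; rfl⟩
    have hFc : Nat.card (Fu.comap Tf) = Nat.card Fu :=
      Nat.card_congr (((Equiv.ofBijective _ hTbij).subtypeEquiv fun u => Iff.rfl))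
    have hC4 : Nat.card U ≤ Nat.card C * 4 := by
      have h := card_submodule_sup_inf Fu (Fu.comap Tf)
      rw [hFc, hFu] at h
      have h2 : Nat.card (Fu ⊔ Fu.comap Tf : Submodule (ZMod 2) U) ≤ Nat.card U :=
        Nat.card_le_card_of_injective Subtype.val Subtype.val_injective
      have h3 : Nat.card F * Nat.card F ≤ Nat.card U * Nat.card C := h ▸ Nat.mul_le_mul_right _ h2
      have h4 : Nat.card U * Nat.card U ≤ Nat.card U * (Nat.card C * 4) := by
        calc _ ≤ (Nat.card F * 2) * (Nat.card F * 2) := Nat.mul_le_mul (hsmall rfl) (hsmall rfl)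
          _ = Nat.card F * Nat.card F * 4 := by ring
          _ ≤ Nat.card U * Nat.card C * 4 := Nat.mul_le_mul_right _ h3
          _ = _ := by ring
      exact Nat.le_of_mul_le_mul_left h4 Nat.card_pos
    have hainv : a'⁻¹ = a' := by
      apply Subtype.ext
      push_cast
      show a⁻¹ = a
      have h := hS.exp a ha
      rw [pow_two] at h
      exact inv_eq_of_mul_eq_one_right h
    have hCker : C ≤ LinearMap.ker D := by
      intro u hu
      rw [LinearMap.mem_ker, hD, LinearMap.sub_apply, Module.End.one_apply, sub_eq_zero, hy, hainv]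
      simp only [map_mul, Module.End.mul_apply]
      have hfixa : ∀ w : U, w ∈ Fu → act ρ K A a' w = w := fun w hw => Subtype.ext (by
        have h : nd ρ a (w : V) = 0 := hw.2
        rw [nd_apply, sub_eq_zero] at h
        exact h)
      rw [hfixa u hu.1, hfixa _ (by rw [← hTf]; exact hu.2), ← Module.End.mul_apply, ← map_mul, inv_mul_cancel, map_one]
      rfl
    have hrange : Nat.card (LinearMap.range D) ≤ 4 := by
      have h1 := (LinearMap.ker D).card_eq_card_quotient_mul_card
      rw [Nat.card_congr D.quotKerEquivRange.toEquiv] at h1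
      have h2 : Nat.card C ≤ Nat.card (LinearMap.ker D) :=
        Nat.card_le_card_of_injective _ (Submodule.inclusion_injective hCker)
      nlinarith [Nat.card_pos (α := C)]
    have hDy : D * act ρ K A y = act ρ K A y * D := by rw [hD]; noncomm_ring
    let f : LinearMap.range D → LinearMap.range D := fun w => ⟨act ρ K A y w, by
      obtain ⟨u, hu⟩ := w.2
      exact ⟨act ρ K A y u, by rw [← Module.End.mul_apply, hDy, Module.End.mul_apply, hu]⟩⟩
    have hfiter : ∀ (k : ℕ) (w : LinearMap.range D), ((f^[k] w : LinearMap.range D) : U) = ((act ρ K A y) ^ k) w := by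
      intro k w
      induction k with
      | zero => rfl
      | succ k ih => rw [Function.iterate_succ_apply', pow_succ', Module.End.mul_apply, ← ih]
    have hD2 : D * D = 0 := by
      refine LinearMap.ext fun u => ?_
      have hbij : Function.Bijective f := Finite.injective_iff_bijective.1 fun v w hvw => by
        have h := congrArg (act ρ K A y⁻¹) (congrArg Subtype.val hvw)
        rw [← Module.End.mul_apply, ← Module.End.mul_apply, ← map_mul, inv_mul_cancel, map_one] at h
        exact Subtype.ext h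
      let e : Equiv.Perm (LinearMap.range D) := Equiv.ofBijective f hbij
      have he : e ^ orderOf t = 1 := Equiv.ext fun w => Subtype.ext (by
        rw [Equiv.Perm.coe_pow]
        show ((f^[orderOf t] w : LinearMap.range D) : U) = w
        rw [hfiter, hyn]; rfl)
      have h2 : orderOf e ∣ (Nat.card (LinearMap.range D)).factorial := by
        rw [← Nat.card_perm]; exact orderOf_dvd_natCard e
      have h3 : orderOf e = 1 := by
        refine Nat.eq_one_of_dvd_coprimes ?_ (orderOf_dvd_of_pow_eq_one he) h2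
        refine Nat.Coprime.coprime_dvd_right (Nat.factorial_dvd_factorial hrange) ?_
        rw [show Nat.factorial 4 = 2 * 2 * 6 by decide]
        have h6 := ht6 rfl
        have h2' : (orderOf t).Coprime 2 := h6.coprime_dvd_right (by norm_num)
        exact (h2'.mul_right h2').mul_right h6
      have hfix : act ρ K A y (D u) = D u := by
        have := congrArg Subtype.val (Equiv.congr_fun (orderOf_eq_one_iff.1 h3) ⟨D u, u, rfl⟩)
        exact this
      rw [Module.End.mul_apply, hD, LinearMap.sub_apply, Module.End.one_apply, ← hD, hfix, sub_self]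
      rfl
    have hy2 : act ρ K A y ^ 2 = 1 := by
      have h0 : act ρ K A y = D + 1 := by rw [hD]; abel
      rw [h0, pow_two, show (D + 1) * (D + 1) = D * D + (2 • D) + 1 by noncomm_ring, hD2,
        ← Nat.cast_smul_eq_nsmul (ZMod 2), show ((2 : ℕ) : ZMod 2) = 0 from rfl, zero_smul]
      simp
    have h := pow_gcd_eq_one.2 ⟨hy2, hyn⟩
    rwa [Nat.coprime_comm.1 ((ht6 rfl).coprime_dvd_right (by norm_num : 2 ∣ 6)), pow_one] at h
  · have hscal : ∀ (m : ℕ) (r : Module.End (ZMod p) U), ¬ p ∣ m → m • r = 0 → r = 0 := fun m r hm h => by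
      rw [← Nat.cast_smul_eq_nsmul (ZMod p), smul_eq_zero] at h
      exact h.resolve_left fun h0 => hm ((ZMod.natCast_eq_zero_iff _ _).1 h0)
    have hpc : ¬ p ∣ orderOf t := (hp.coprime_iff_not_dvd).1 htp.symm
    have h2' : ¬ p ∣ 2 := fun h => hp2 ((Nat.prime_dvd_prime_iff_eq hp Nat.prime_two).1 h)
    have hS1 : ∀ m, ¬ p ∣ m → Commute (act ρ K A (a' ^ m * t' * (a' ^ m)⁻¹)) Tf := fun m hm => by
      rw [hTf]
      exact (show Commute (a' ^ m * t' * (a' ^ m)⁻¹) t' from Subtype.ext (hsep m hm).eq).map _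
    have h1 := hS1 1 hp.not_dvd_one
    have h2 := hS1 2 h2'
    simp only [pow_one, map_mul, hA, hAi] at h1
    have hNN : (1 + N) * (1 + N) = 1 + (N + N) := by
      rw [show (1 + N) * (1 + N) = 1 + (N + N) + N * N by noncomm_ring, hN2, add_zero]
    have hNN' : (1 - N) * (1 - N) = 1 - (N + N) := by
      rw [show (1 - N) * (1 - N) = 1 - (N + N) + N * N by noncomm_ring, hN2, add_zero]
    simp only [pow_two, mul_inv_rev, map_mul, hA, hAi, hNN, hNN'] at h2
    rw [← hTf] at h1 h2
    have h := ring_lemma (fun r hr => hscal 2 r h2' (by rw [two_nsmul]; exact hr))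
      (fun r hr => hscal _ r hpc hr) hTn hN2 h1.eq.symm h2.eq.symm
    rw [map_mul, map_mul, map_mul, hA, hAi, ← hTf, h, hTf, ← map_mul, inv_mul_cancel, map_one]

theorem quad_false (hρ : Function.Injective ρ) (hS : Setting K A p) {a : G} (ha : a ∈ A)
    (haK : a ∉ normalizer (K : Set G)) (hp2 : p ≠ 2)
    (hquad : ∀ u ∈ usp ρ K A, nd ρ a (nd ρ a u) = 0) : False :=
  quad_core hρ hS ha haK hquad fun h => absurd h hp2

theorem no_small (hρ : Function.Injective ρ) (hS : Setting K A p) {a : G} (ha : a ∈ A)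
    (haK : a ∉ normalizer (K : Set G)) : Nat.card (ufix ρ K A a) * p < Nat.card (usp ρ K A) := by
  by_contra hsmall
  push Not at hsmall
  have hp : p.Prime := Fact.out
  set U := usp ρ K A
  set F := ufix ρ K A a with hF
  have hquad : ∀ u ∈ U, nd ρ a (nd ρ a u) = 0 := by
    intro u hu
    have hle : U.map (nd ρ a) ⊔ F ≤ U := sup_le (by
      rintro _ ⟨v, hv, rfl⟩
      exact nd_usp (A_le_good hS ha) hv) inf_le_left
    rcases eq_or_lt_of_le (le_sup_right : F ≤ U.map (nd ρ a) ⊔ F) with h | h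
    · exact (h.symm.le (Submodule.mem_sup_left ⟨u, hu, rfl⟩)).2
    · have h2 : U.map (nd ρ a) ⊔ F = U := by
        refine SetLike.coe_injective (Set.eq_of_subset_of_ncard_le hle ?_ (Set.toFinite _))
        rw [← Nat.card_coe_set_eq, ← Nat.card_coe_set_eq]
        exact hsmall.trans (card_le_of_lt h)
      have hFU := eq_of_sup_image ρ (hS.exp a ha) inf_le_left (by
        rintro _ ⟨v, hv, rfl⟩
        rw [LinearMap.mem_ker.1 hv.2]; exact zero_mem F) h2
      have hu' : nd ρ a u = 0 := (hFU.ge hu).2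
      rw [hu', map_zero]
  exact quad_core hρ hS ha haK hquad fun _ => hsmall

/-- The offender inequality on the commutator space. -/
theorem card_usp_le (hP : ∀ B : Subgroup G, B ≤ A → meas ρ B ≤ meas ρ A) :
    Nat.card (usp ρ K A) * Nat.card (kerA K A) ≤
      Nat.card A * Nat.card (usp ρ K A ⊓ fix ρ A : Submodule (ZMod p) V) := by
  have h1 := card_submodule_sup_inf (usp ρ K A) (fix ρ A)
  have h2 : Nat.card (usp ρ K A ⊔ fix ρ A : Submodule (ZMod p) V) ≤ Nat.card (wsp ρ K A) :=
    Nat.card_le_card_of_injective _ (Submodule.inclusion_injective (sup_le usp_le (fix_anti ρ inf_le_left)))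
  have h3 := hP (kerA K A) inf_le_left
  simp only [meas] at h3
  refine Nat.le_of_mul_le_mul_right ?_ (Nat.card_pos (α := fix ρ A))
  calc Nat.card (usp ρ K A) * Nat.card (kerA K A) * Nat.card (fix ρ A)
      = Nat.card (usp ρ K A) * Nat.card (fix ρ A) * Nat.card (kerA K A) := by ring
    _ ≤ Nat.card (wsp ρ K A) * Nat.card (usp ρ K A ⊓ fix ρ A : Submodule (ZMod p) V) * Nat.card (kerA K A) := by
        rw [← h1]; exact Nat.mul_le_mul_right _ (Nat.mul_le_mul_right _ h2)
    _ = Nat.card (kerA K A) * Nat.card (wsp ρ K A) * Nat.card (usp ρ K A ⊓ fix ρ A : Submodule (ZMod p) V) := by ring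
    _ ≤ Nat.card A * Nat.card (fix ρ A) * Nat.card (usp ρ K A ⊓ fix ρ A : Submodule (ZMod p) V) :=
        Nat.mul_le_mul_right _ h3
    _ = _ := by ring

theorem commute_of_kerA {c : G} (hc : c ∈ kerA K A) {x : G} (hx : x ∈ K) : Commute c x :=
  (mem_centralizer_iff.1 hc.2 x (le_orb hx)).symm

theorem kerA_le_normalizer {c : G} (hc : c ∈ kerA K A) : c ∈ normalizer (K : Set G) :=
  centralizer_le_normalizer _ (mem_centralizer_iff.2 fun _ hx => (commute_of_kerA hc hx).eq.symm)

theorem mem_kerA (hS : Setting K A p) {c : G} (hc : c ∈ A) (h : ∀ x ∈ K, Commute c x) : c ∈ kerA K A := by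
  refine ⟨hc, mem_centralizer_iff.2 fun l hl => ((commute_orb (fun d hd x hx => ?_) hl).eq).symm⟩
  have hcd : Commute c d := hS.comm c hc d hd
  exact (hcd.mul_right (h x hx)).mul_right hcd.inv_right

/-- `a` kills the commutators of the diagonal. -/
theorem diag_kill (hρ : Function.Injective ρ) (hS : Setting K A p)
    (hP : ∀ B : Subgroup G, B ≤ A → meas ρ B ≤ meas ρ A) {a : G} (ha : a ∈ A)
    (haK : a ∉ normalizer (K : Set G)) :
    ∀ y ∈ K, ∀ v ∈ wsp ρ K A, nd ρ a (nd ρ (dl a p y) v) = 0 := by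
  have hp : p.Prime := Fact.out
  have hgood := fun {g : G} (hg : g ∈ A) => A_le_good hS hg
  have hne : ¬ fix ρ (kerA K A) ≤ fix ρ A := by
    intro h
    have hlt := no_small hρ hS ha haK
    have hle : usp ρ K A ≤ ufix ρ K A a := fun u hu => ⟨hu, by
      rw [SetLike.mem_coe, LinearMap.mem_ker, nd_apply, h (usp_le hu) a ha, sub_self]⟩
    have h2 := Nat.card_le_card_of_injective _ (Submodule.inclusion_injective hle)
    nlinarith [hp.two_le, Nat.card_pos (α := usp ρ K A)]
  obtain ⟨e0, he0A, he0B, he0⟩ := exists_annihilator ρ hS.comm hS.exp (inf_le_left : kerA K A ≤ A)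
    (fun D _ hD => hP D hD) hne
  -- an element useful for `a`
  obtain ⟨e, heA, he, hek⟩ : ∃ e ∈ A, (∀ v ∈ wsp ρ K A, nd ρ a (nd ρ e v) = 0) ∧
      ((e ∈ normalizer (K : Set G) ∧ e ∉ kerA K A) ∨ ∀ i < p, (a ^ i)⁻¹ * e ∉ normalizer (K : Set G)) := by
    have h0 : ∀ v ∈ wsp ρ K A, nd ρ a (nd ρ e0 v) = 0 := fun v hv => by
      rw [nd_nd_comm ρ (hS.comm a ha e0 he0A)]; exact he0 a ha v hv
    by_cases hout : ∀ i < p, (a ^ i)⁻¹ * e0 ∉ normalizer (K : Set G)
    · exact ⟨e0, he0A, h0, Or.inr hout⟩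
    push Not at hout
    obtain ⟨i, hip, hi⟩ := hout
    rcases Nat.eq_zero_or_pos i with rfl | hi0
    · exact ⟨e0, he0A, h0, Or.inl ⟨by simpa using hi, he0B⟩⟩
    have he0K : e0 ∉ normalizer (K : Set G) := fun h => by
      refine not_mem_normalizer_pow hp hS ha haK (m := i) (fun h' => ?_) ?_
      · have := Nat.le_of_dvd hi0 h'; omega
      · have := mul_mem h (inv_mem hi)
        rwa [mul_inv_rev, inv_inv, mul_inv_cancel_left] at this
    by_cases hp2 : p = 2
    · subst hp2
      obtain rfl : i = 1 := by omega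
      have hnd : nd ρ a * nd ρ a = 0 := by
        have := nd_pow ρ (hS.exp a ha)
        rwa [pow_two] at this
      have hsplit : ∀ b, b ∈ A → (∀ v ∈ wsp ρ K A, nd ρ a (nd ρ (a * b) v) = 0) →
          ∀ v ∈ wsp ρ K A, nd ρ a (nd ρ b v) = 0 := by
        intro b hb h v hv
        have h2 := h v hv
        rw [nd_mul, map_add, ← Module.End.mul_apply (nd ρ a) (nd ρ a), hnd, LinearMap.zero_apply, zero_add] at h2
        exact h2
      obtain ⟨b, hb⟩ : ∃ b, b = a⁻¹ * e0 := ⟨_, rfl⟩
      have hbA : b ∈ A := hb ▸ mul_mem (inv_mem ha) he0A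
      have hbN : b ∈ normalizer (K : Set G) := by simpa [hb] using hi
      by_cases hbB : b ∈ kerA K A
      swap
      · exact ⟨b, hbA, hsplit b hbA (by rw [hb, mul_inv_cancel_left]; exact h0), Or.inl ⟨hbN, hbB⟩⟩
      have hall : ∀ c ∈ A, ∀ v ∈ wsp ρ K A, nd ρ a (nd ρ c v) = 0 := by
        intro c hc v hv
        have h := he0 c hc v hv
        rw [show e0 = a * b by rw [hb, mul_inv_cancel_left], nd_mul] at h
        have hcv : nd ρ c v ∈ wsp ρ K A := by
          rw [nd_apply]; exact sub_mem (mem_wsp (hgood hc) hv) hv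
        rwa [hcv b hbB, nd_apply ρ b, hcv b hbB, sub_self, add_zero] at h
      by_cases hc : ∃ c ∈ A, ∀ i < 2, (a ^ i)⁻¹ * c ∉ normalizer (K : Set G)
      · obtain ⟨c, hcA, hc⟩ := hc
        exact ⟨c, hcA, hall c hcA, Or.inr hc⟩
      push Not at hc
      by_cases hc' : ∃ c ∈ A, c ∈ normalizer (K : Set G) ∧ c ∉ kerA K A
      · obtain ⟨c, hcA, hcN, hcB⟩ := hc'
        exact ⟨c, hcA, hall c hcA, Or.inl ⟨hcN, hcB⟩⟩
      push Not at hc'
      exfalso
      have hcover : Nat.card A ≤ 2 * Nat.card (kerA K A) := by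
        classical
        let f : A → Bool × kerA K A := fun c => if h : (c : G) ∈ normalizer (K : Set G) then
          (false, ⟨c, hc' c c.2 h⟩) else (true, ⟨a⁻¹ * c, hc' _ (mul_mem (inv_mem ha) c.2) (by
            obtain ⟨i, hi2, hi⟩ := hc c c.2
            rcases (show i = 0 ∨ i = 1 by omega) with rfl | rfl
            · exact absurd (by simpa using hi) h
            · simpa using hi)⟩)
        have hf : Function.Injective f := fun c d hcd => by
          simp only [f] at hcd
          split_ifs at hcd with h1 h2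
          all_goals first
            | exact Subtype.ext (congrArg (fun q => ((Prod.snd q : kerA K A) : G)) hcd :)
            | exact Subtype.ext (mul_left_cancel (congrArg (fun q => ((Prod.snd q : kerA K A) : G)) hcd))
            | exact absurd (congrArg Prod.fst hcd) Bool.false_ne_true
            | exact absurd (congrArg Prod.fst hcd).symm Bool.false_ne_true
        have := Nat.card_le_card_of_injective f hf
        rwa [Nat.card_prod, Nat.card_eq_fintype_card (α := Bool), Fintype.card_bool] at this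
      have h1 := card_usp_le (K := K) hP
      have h2 := no_small hρ hS ha haK
      have h3 : Nat.card (usp ρ K A ⊓ fix ρ A : Submodule (ZMod 2) V) ≤ Nat.card (ufix ρ K A a) :=
        Nat.card_le_card_of_injective _ (Submodule.inclusion_injective (fun u (hu : u ∈ usp ρ K A ⊓ fix ρ A) => Submodule.mem_inf.2 ⟨hu.1, by
          rw [LinearMap.mem_ker, nd_apply, hu.2 a ha, sub_self]⟩))
      have h4 := h1.trans (Nat.mul_le_mul hcover h3)
      have h5 : Nat.card (usp ρ K A) ≤ 2 * Nat.card (ufix ρ K A a) :=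
        Nat.le_of_mul_le_mul_right (h4.trans (le_of_eq (by ring))) (Nat.card_pos (α := kerA K A))
      omega
    · -- a quadratic element fixes the components
      exfalso
      exact quad_false hρ hS he0A he0K hp2 (fun u hu => he0 e0 he0A u (usp_le hu))
  -- the elements killed by `a`
  let P : Subgroup G :=
    { carrier := {g | g ∈ good K A ∧ Commute a g ∧ ∀ v ∈ wsp ρ K A, nd ρ a (nd ρ g v) = 0}
      one_mem' := ⟨one_mem _, Commute.one_right a, fun v _ => by simp [nd_apply]⟩
      mul_mem' := fun {g h} hg hh => ⟨mul_mem hg.1 hh.1, hg.2.1.mul_right hh.2.1, fun v hv => by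
        rw [nd_mul, map_add, hg.2.2 _ (mem_wsp hh.1 hv), hh.2.2 v hv, add_zero]⟩
      inv_mem' := fun {g} hg => ⟨inv_mem hg.1, hg.2.1.inv_right, fun v hv => by
        rw [nd_inv, map_neg, hg.2.2 _ (mem_wsp (inv_mem hg.1) hv), neg_zero]⟩ }
  have hPconj : ∀ {g x : G}, g ∈ P → x ∈ good K A → Commute a x → x * g * x⁻¹ ∈ P := fun {g x} hg hx hax => by
    refine ⟨mul_mem (mul_mem hx hg.1) (inv_mem hx), (hax.mul_right hg.2.1).mul_right hax.inv_right, fun v hv => ?_⟩
    have h := hg.2.2 (ρ x⁻¹ v) (mem_wsp (inv_mem hx) hv)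
    have h3 : ρ x (ρ x⁻¹ v) = v := by rw [← mul_apply, mul_inv_cancel, map_one]; rfl
    rw [← h3, ← nd_conj, nd_rho ρ hax.eq, h, map_zero]
  have hd : ∀ y ∈ K, dl a p y ∈ good K A ∧ Commute a (dl a p y) := fun y hy =>
    ⟨orb_le_good (dl_mem ha hy p), dl_fix hp hS ha haK hy⟩
  have heP : e ∈ P := ⟨hgood heA, hS.comm a ha e heA, he⟩
  let N : Subgroup G :=
    { carrier := {y | y ∈ K ∧ dl a p y ∈ P}
      one_mem' := ⟨one_mem _, by rw [dl_one]; exact one_mem _⟩
      mul_mem' := fun {u v} hu hv => ⟨mul_mem hu.1 hv.1, by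
        rw [dl_mul hp hS ha haK hu.1 hv.1 p le_rfl]; exact P.mul_mem hu.2 hv.2⟩
      inv_mem' := fun {u} hu => ⟨inv_mem hu.1, by
        rw [← dl_inv hp hS ha haK hu.1]; exact P.inv_mem hu.2⟩ }
  suffices hN : N = K by
    intro y hy
    exact (show y ∈ N from hN.symm ▸ hy).2.2.2
  have hbr : ∀ y ∈ K, dl a p y * e * (dl a p y)⁻¹ * e⁻¹ ∈ P := fun y hy =>
    P.mul_mem (hPconj heP (hd y hy).1 (hd y hy).2) (P.inv_mem heP)
  have hnormal : ∀ k ∈ K, ∀ y ∈ N, k * y * k⁻¹ ∈ N := fun k hk y hy => ⟨K.mul_mem (K.mul_mem hk hy.1) (K.inv_mem hk), by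
    rw [dl_mul hp hS ha haK (K.mul_mem hk hy.1) (inv_mem hk) p le_rfl, dl_mul hp hS ha haK hk hy.1 p le_rfl,
      ← dl_inv hp hS ha haK hk]
    exact hPconj hy.2 (hd k hk).1 (hd k hk).2⟩
  rcases hek with ⟨heN, heB⟩ | hout
  · obtain ⟨y, hy, x, hx, hxy⟩ : ∃ y ∈ K, ∃ x ∈ K, ¬ Commute x (y⁻¹ * (e * y * e⁻¹)) := by
      by_contra h
      push Not at h
      exact heB (mem_kerA hS heA (commute_of_central hS heN h))
    refine eq_of_noncentral hS (fun z hz => hz.1) hnormal (y := y⁻¹ * (e * y * e⁻¹))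
      ⟨K.mul_mem (K.inv_mem hy) (CLarge.conj_mem heN hy), ?_⟩ hx hxy
    rw [dl_mul hp hS ha haK (inv_mem hy) (CLarge.conj_mem heN hy) p le_rfl, ← conj_dl (hS.comm e heA a ha) y p,
      ← dl_inv hp hS ha haK hy]
    have h := hbr y⁻¹ (inv_mem hy)
    rw [← dl_inv hp hS ha haK hy, inv_inv] at h
    simpa [mul_assoc] using h
  · obtain ⟨y, hy, z, hz, x, hx, hxyz⟩ := exists_noncommute hS
    refine eq_of_noncentral hS (fun z hz => hz.1) hnormal (y := y * z * y⁻¹ * z⁻¹)
      ⟨K.mul_mem (K.mul_mem (K.mul_mem hy hz) (K.inv_mem hy)) (K.inv_mem hz), ?_⟩ hx hxyz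
    obtain ⟨f, hf⟩ : ∃ f, f = e * (dl a p y)⁻¹ * e⁻¹ := ⟨_, rfl⟩
    have hfz : Commute f (dl a p z) := by
      rw [hf, dl_inv hp hS ha haK hy, conj_dl (hS.comm e heA a ha)]
      refine (dl_commute (a := a) fun i hi => ?_).symm
      refine (dl_commute (a := a) fun j hj => ?_).symm
      have h : (a ^ j)⁻¹ * (a ^ i * e) ∉ normalizer (K : Set G) := fun h => hout ((p + j - i) % p) (Nat.mod_lt _ hp.pos) (by
        have : (a ^ ((p + j - i) % p))⁻¹ = (a ^ j)⁻¹ * a ^ i := by
          rw [← pow_eq_pow_mod _ (hS.exp a ha), inv_eq_iff_mul_eq_one, ← mul_assoc]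
          calc a ^ (p + j - i) * (a ^ j)⁻¹ * a ^ i = a ^ (p + j - i) * a ^ i * (a ^ j)⁻¹ := by
                rw [mul_assoc, ((Commute.refl a).pow_pow j i).inv_left.eq, mul_assoc]
            _ = 1 := by rw [← pow_add, show p + j - i + i = p + j by omega, pow_add, hS.exp a ha, one_mul, mul_inv_cancel]
        rw [this]; simpa [mul_assoc] using h)
      have h2 := commute_of_ne hS h (inv_mem hy) hz
      simpa [mul_assoc] using h2
    have hw : dl a p y * f ∈ P := by
      have h := hbr y hy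
      rwa [mul_assoc (dl a p y), mul_assoc (dl a p y), ← hf] at h
    have h := P.mul_mem hw (hPconj (P.inv_mem hw) (hd z hz).1 (hd z hz).2)
    have e1 : dl a p y * f * (dl a p z * (dl a p y * f)⁻¹ * (dl a p z)⁻¹) =
        dl a p (y * z * y⁻¹ * z⁻¹) := by
      rw [dl_mul hp hS ha haK (K.mul_mem (K.mul_mem hy hz) (K.inv_mem hy)) (inv_mem hz) p le_rfl,
        dl_mul hp hS ha haK (K.mul_mem hy hz) (inv_mem hy) p le_rfl, dl_mul hp hS ha haK hy hz p le_rfl,
        ← dl_inv hp hS ha haK hy, ← dl_inv hp hS ha haK hz]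
      calc _ = dl a p y * (f * dl a p z * f⁻¹) * (dl a p y)⁻¹ * (dl a p z)⁻¹ := by group
        _ = _ := by rw [hfz.eq, mul_inv_cancel_right]
    rwa [e1] at h

theorem sum_top (hρ : Function.Injective ρ) (hS : Setting K A p)
    (hP : ∀ B : Subgroup G, B ≤ A → meas ρ B ≤ meas ρ A) {a a' : G} (ha : a ∈ A) (ha' : a' ∈ A)
    (haK : a ∉ normalizer (K : Set G)) (ha'K : a' ∉ normalizer (K : Set G))
    (hdist : ∀ i : ℕ, (a ^ i)⁻¹ * a' ∉ centralizer (orb K A : Set G)) :
    usp ρ K A ≤ ufix ρ K A a ⊔ ufix ρ K A a' := by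
  have hp : p.Prime := Fact.out
  set S := ufix ρ K A a ⊔ ufix ρ K A a'
  let H : Subgroup G :=
    { carrier := {g | g ∈ orb K A ∧ ∀ v ∈ wsp ρ K A, nd ρ g v ∈ S}
      one_mem' := ⟨one_mem _, fun v _ => by simp [nd_apply]⟩
      mul_mem' := fun {g h} hg hh => ⟨mul_mem hg.1 hh.1, fun v hv => by
        rw [nd_mul]; exact S.add_mem (hg.2 _ (mem_wsp (orb_le_good hh.1) hv)) (hh.2 v hv)⟩
      inv_mem' := fun {g} hg => ⟨inv_mem hg.1, fun v hv => by
        rw [nd_inv]; exact S.neg_mem (hg.2 _ (mem_wsp (orb_le_good (inv_mem hg.1)) hv))⟩ }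
  have hcS : ∀ c ∈ A, S ≤ S.comap (ρ c) := fun c hc => sup_le
    (fun u hu => Submodule.mem_sup_left ⟨mem_usp (A_le_good hS hc) hu.1, by
      rw [SetLike.mem_coe, LinearMap.mem_ker, nd_rho ρ (hS.comm a ha c hc), LinearMap.mem_ker.1 hu.2, map_zero]⟩)
    (fun u hu => Submodule.mem_sup_right ⟨mem_usp (A_le_good hS hc) hu.1, by
      rw [SetLike.mem_coe, LinearMap.mem_ker, nd_rho ρ (hS.comm a' ha' c hc), LinearMap.mem_ker.1 hu.2, map_zero]⟩)
  have hle := orb_le_of_diag hp hS ha ha' haK ha'K hdist (H := H) (fun g hg => hg.1) (fun c hc g hg => by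
      refine ⟨CLarge.conj_mem (A_le_normalizer_orb hc) hg.1, fun v hv => ?_⟩
      have h3 : ρ c (ρ c⁻¹ v) = v := by rw [← mul_apply, mul_inv_cancel, map_one]; rfl
      rw [← h3, ← nd_conj]
      exact hcS c hc (hg.2 _ (mem_wsp (inv_mem (A_le_good hS hc)) hv)))
    (fun y hy => ⟨dl_mem ha hy p, fun v hv => Submodule.mem_sup_left
      ⟨nd_mem_usp (dl_mem ha hy p) hv, diag_kill hρ hS hP ha haK y hy v hv⟩⟩)
    (fun y hy => ⟨dl_mem ha' hy p, fun v hv => Submodule.mem_sup_right
      ⟨nd_mem_usp (dl_mem ha' hy p) hv, diag_kill hρ hS hP ha' ha'K y hy v hv⟩⟩)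
  refine Submodule.span_le.2 ?_
  rintro _ ⟨l, hl, w, hw, rfl⟩
  exact (hle hl).2 w hw

/-- A best offender normalises the component. -/
theorem le_normalizer (hρ : Function.Injective ρ) (hS : Setting K A p)
    (hP : ∀ B : Subgroup G, B ≤ A → meas ρ B ≤ meas ρ A) : A ≤ normalizer (K : Set G) := by
  classical
  by_contra hne
  have hp : p.Prime := Fact.out
  obtain ⟨U, hU⟩ : ∃ U, U = usp ρ K A := ⟨_, rfl⟩
  have := Fintype.ofFinite A
  have : Finite (Module.Dual (ZMod p) (usp ρ K A)) := Module.finite_of_finite (ZMod p)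
  have := Fintype.ofFinite (Module.Dual (ZMod p) (usp ρ K A))
  let F : Submodule (ZMod p) (usp ρ K A) := (fix ρ A).comap (usp ρ K A).subtype
  let Ua : G → Submodule (ZMod p) (usp ρ K A) := fun a => (LinearMap.ker (nd ρ a)).comap (usp ρ K A).subtype
  have hann : ∀ W : Submodule (ZMod p) (usp ρ K A),
      Nat.card W * Nat.card W.dualAnnihilator = Nat.card (usp ρ K A) := fun W => by
    rw [Module.natCard_eq_pow_finrank (K := ZMod p) (V := W), Module.natCard_eq_pow_finrank (K := ZMod p) (V := W.dualAnnihilator),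
      Module.natCard_eq_pow_finrank (K := ZMod p) (V := usp ρ K A), ← pow_add,
      Subspace.finrank_add_finrank_dualAnnihilator_eq]
  have hUa : ∀ a, Nat.card (Ua a) = Nat.card (ufix ρ K A a) := fun a => Nat.card_congr
    { toFun := fun u => ⟨u.1, u.1.2, u.2⟩, invFun := fun u => ⟨⟨u.1, u.2.1⟩, u.2.2⟩
      left_inv := fun u => rfl, right_inv := fun u => rfl }
  have hFc : Nat.card F = Nat.card (usp ρ K A ⊓ fix ρ A : Submodule (ZMod p) V) := Nat.card_congr
    { toFun := fun u => ⟨u.1, u.1.2, u.2⟩, invFun := fun u => ⟨⟨u.1, u.2.1⟩, u.2.2⟩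
      left_inv := fun u => rfl, right_inv := fun u => rfl }
  let s : Finset A := Finset.univ.filter fun a : A => (a : G) ∉ normalizer (K : Set G)
  let Φ : A → Finset (Module.Dual (ZMod p) (usp ρ K A)) := fun a =>
    Finset.univ.filter fun φ => φ ∈ (Ua (a : G)).dualAnnihilator ∧ φ ≠ 0
  -- each element kills many functionals
  have hΦ : ∀ a ∈ s, p ^ 2 ≤ (Φ a).card + 1 := by
    intro a ha
    have h1 := no_small hρ hS a.2 (Finset.mem_filter.1 ha).2
    have h2 := hann (Ua (a : G))
    rw [hUa] at h2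
    have h3 : p < Nat.card (Ua (a : G)).dualAnnihilator := by
      rw [← h2] at h1
      exact Nat.lt_of_mul_lt_mul_left h1
    obtain ⟨d, hd⟩ : ∃ d, Nat.card (Ua (a : G)).dualAnnihilator = p ^ d :=
      ⟨_, by rw [Module.natCard_eq_pow_finrank (K := ZMod p) (V := (Ua (a : G)).dualAnnihilator), Nat.card_zmod]⟩
    have h4 : p ^ 2 ≤ Nat.card (Ua (a : G)).dualAnnihilator := by
      rw [hd] at h3 ⊢
      refine Nat.pow_le_pow_right hp.pos ?_
      by_contra hd2
      rcases (show d = 0 ∨ d = 1 by omega) with rfl | rfl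
      · rw [pow_zero] at h3; have := hp.two_le; omega
      · rw [pow_one] at h3; omega
    refine h4.trans ?_
    have h5 : Nat.card (Ua (a : G)).dualAnnihilator =
        (Finset.univ.filter fun φ => φ ∈ (Ua (a : G)).dualAnnihilator).card := by
      rw [Nat.card_eq_fintype_card, Fintype.card_subtype]
    rw [h5]
    refine (Finset.card_le_card (t := insert 0 (Φ a)) fun φ hφ => ?_).trans (Finset.card_insert_le _ _)
    by_cases h : φ = 0
    · exact Finset.mem_insert.2 (Or.inl h)
    · exact Finset.mem_insert_of_mem (Finset.mem_filter.2 ⟨Finset.mem_univ _, (Finset.mem_filter.1 hφ).2, h⟩)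
  -- each functional is killed by few elements
  let T : Finset (Module.Dual (ZMod p) (usp ρ K A)) :=
    Finset.univ.filter fun φ => φ ∈ F.dualAnnihilator ∧ φ ≠ 0
  have hT : T.card + 1 ≤ Nat.card F.dualAnnihilator := by
    have h5 : Nat.card F.dualAnnihilator = (Finset.univ.filter fun φ => φ ∈ F.dualAnnihilator).card := by
      rw [Nat.card_eq_fintype_card, Fintype.card_subtype]
    rw [h5]
    have h6 : (0 : Module.Dual (ZMod p) (usp ρ K A)) ∉ T := fun h => (Finset.mem_filter.1 h).2.2 rfl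
    rw [← Finset.card_insert_of_notMem h6]
    refine Finset.card_le_card fun φ hφ => ?_
    rcases Finset.mem_insert.1 hφ with rfl | h
    · exact Finset.mem_filter.2 ⟨Finset.mem_univ _, zero_mem _⟩
    · exact Finset.mem_filter.2 ⟨Finset.mem_univ _, (Finset.mem_filter.1 h).2.1⟩
  let J := s.sigma Φ
  have hJ1 : s.card * (p ^ 2 - 1) ≤ J.card := by
    rw [Finset.card_sigma, ← smul_eq_mul]
    exact Finset.card_nsmul_le_sum _ _ _ fun a ha => Nat.sub_le_iff_le_add.2 (hΦ a ha)
  let B0 : Finset A := Finset.univ.filter fun b : A => (b : G) ∈ kerA K A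
  have hB0 : B0.card = Nat.card (kerA K A) := by
    rw [← Nat.card_congr (subgroupOfEquivOfLe (inf_le_left : kerA K A ≤ A)).toEquiv, Nat.card_eq_fintype_card,
      Fintype.card_subtype]
    rfl
  have hJ2 : J.card ≤ (p - 1) * Nat.card (kerA K A) * T.card := by
    refine Finset.card_le_mul_card_image_of_maps_to (f := Sigma.snd) (fun x hx => ?_) _ fun φ hφ => ?_
    · obtain ⟨-, h2⟩ := Finset.mem_sigma.1 hx
      obtain ⟨-, h3, h4⟩ := Finset.mem_filter.1 h2
      refine Finset.mem_filter.2 ⟨Finset.mem_univ _, (Submodule.mem_dualAnnihilator _).2 fun u hu => ?_, h4⟩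
      refine (Submodule.mem_dualAnnihilator _).1 h3 u ?_
      show nd ρ (x.1 : G) (u : V) = 0
      rw [nd_apply, (show (u : V) ∈ fix ρ A from hu) _ x.1.2, sub_self]
    · rcases (J.filter fun x => x.2 = φ).eq_empty_or_nonempty with he | ⟨⟨a0, φ0⟩, h0⟩
      · rw [he]; simp
      obtain ⟨h0J, h0e⟩ := Finset.mem_filter.1 h0
      obtain rfl : φ0 = φ := h0e
      obtain ⟨ha0, hφ0⟩ := Finset.mem_sigma.1 h0J
      have himg : ((Finset.Icc 1 (p - 1)) ×ˢ B0).card = (p - 1) * Nat.card (kerA K A) := by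
        rw [Finset.card_product, Nat.card_Icc, hB0]; simp
      rw [← himg]
      refine (Finset.card_le_card_of_injOn Sigma.fst (fun x hx => ?_) ?_).trans
        ((Finset.card_le_card (t := ((Finset.Icc 1 (p - 1)) ×ˢ B0).image fun ib => a0 ^ ib.1 * ib.2) fun a ha => ha).trans
          Finset.card_image_le)
      · obtain ⟨hxJ, hxe⟩ := Finset.mem_filter.1 (Finset.mem_coe.1 hx)
        obtain ⟨hxs, hxΦ⟩ := Finset.mem_sigma.1 hxJ
        obtain ⟨-, hx3, hx4⟩ := Finset.mem_filter.1 hxΦ
        obtain ⟨-, h03, -⟩ := Finset.mem_filter.1 hφ0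
        rw [hxe] at hx3 hx4
        by_cases hd : ∀ i : ℕ, ((a0 : G) ^ i)⁻¹ * (x.1 : G) ∉ centralizer (orb K A : Set G)
        · exfalso
          apply hx4
          refine LinearMap.ext fun u => ?_
          obtain ⟨u1, hu1, u2, hu2, hu⟩ := Submodule.mem_sup.1 (sum_top hρ hS hP a0.2 x.1.2
            (Finset.mem_filter.1 ha0).2 (Finset.mem_filter.1 hxs).2 hd u.2)
          have e : u = (⟨u1, hu1.1⟩ : usp ρ K A) + ⟨u2, hu2.1⟩ := Subtype.ext hu.symm
          rw [e, map_add, (Submodule.mem_dualAnnihilator _).1 h03 ⟨u1, hu1.1⟩ hu1.2,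
            (Submodule.mem_dualAnnihilator _).1 hx3 ⟨u2, hu2.1⟩ hu2.2]
          simp
        · push Not at hd
          obtain ⟨i, hi⟩ := hd
          have hk : ((a0 : G) ^ (i % p))⁻¹ * (x.1 : G) ∈ kerA K A := by
            rw [← pow_eq_pow_mod _ (hS.exp _ a0.2)]
            exact ⟨A.mul_mem (A.inv_mem (A.pow_mem a0.2 i)) x.1.2, hi⟩
          have hi0 : i % p ≠ 0 := fun h => (Finset.mem_filter.1 hxs).2 (by
            have := kerA_le_normalizer hk
            simpa [h] using this)
          refine Finset.mem_coe.2 (Finset.mem_image.2 ⟨(i % p, (a0 ^ (i % p))⁻¹ * x.1),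
            Finset.mem_product.2 ⟨Finset.mem_Icc.2 ⟨by omega, by have := Nat.mod_lt i hp.pos; omega⟩,
              Finset.mem_filter.2 ⟨Finset.mem_univ _, by simpa using hk⟩⟩, mul_inv_cancel_left _ _⟩)
      · intro x hx y hy hxy
        obtain ⟨-, hxe⟩ := Finset.mem_filter.1 (Finset.mem_coe.1 hx)
        obtain ⟨-, hye⟩ := Finset.mem_filter.1 (Finset.mem_coe.1 hy)
        rcases x with ⟨xa, xf⟩
        rcases y with ⟨ya, yf⟩
        simp only at hxy hxe hye
        subst hxy hxe hye
        rfl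
  -- compare
  have hs : Nat.card A * (p - 1) ≤ s.card * p := by
    let B : Subgroup G := A ⊓ normalizer (K : Set G)
    have hBlt : B < A := lt_of_le_of_ne inf_le_left fun h => hne (inf_eq_left.1 h)
    obtain ⟨i, hi⟩ := card_dvd_of_le hBlt.le
    have hi1 : i ≠ 1 := fun h1 => hBlt.ne (eq_of_le_of_card_ge hBlt.le (by rw [hi, h1, mul_one]))
    have hApG : IsPGroup p A := fun x => ⟨1, by rw [pow_one]; exact Subtype.ext (hS.exp x x.2)⟩
    obtain ⟨m, hm⟩ := hApG.exists_card_eq
    have hpi : p ≤ i := by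
      obtain ⟨j, -, hj⟩ := (Nat.dvd_prime_pow hp).1 (hm ▸ Dvd.intro_left _ hi.symm : i ∣ p ^ m)
      rcases j with _ | j
      · exact absurd (by simpa using hj) hi1
      · rw [hj]; exact Nat.le_self_pow (Nat.succ_ne_zero j) p
    have hcount : s.card + Nat.card B = Nat.card A := by
      have h := Finset.card_filter_add_card_filter_not (s := (Finset.univ : Finset A))
        (fun a : A => (a : G) ∉ normalizer (K : Set G))
      rw [Finset.card_univ, ← Nat.card_eq_fintype_card (α := A)] at h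
      rw [← h]
      congr 1
      rw [← Nat.card_congr (subgroupOfEquivOfLe hBlt.le).toEquiv, Nat.card_eq_fintype_card, Fintype.card_subtype]
      refine Finset.card_bij (fun a _ => a) (fun a ha => ?_) (fun a _ b _ h => h) (fun b hb => ?_)
      · exact Finset.mem_filter.2 ⟨Finset.mem_univ _, not_not.2 (Finset.mem_filter.1 ha).2.2⟩
      · exact ⟨b, Finset.mem_filter.2 ⟨Finset.mem_univ _, b.2, not_not.1 (Finset.mem_filter.1 hb).2⟩, rfl⟩
    have hBp : Nat.card B * p ≤ Nat.card A := hi ▸ Nat.mul_le_mul_left _ hpi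
    obtain ⟨q, hq⟩ : ∃ q, p = q + 1 := ⟨p - 1, by have := hp.pos; omega⟩
    subst hq
    simp only [Nat.add_sub_cancel]
    nlinarith
  have hU1 := card_usp_le (K := K) hP
  have hF1 := hann F
  rw [hFc] at hF1
  -- the final inequality
  have hA : Nat.card (kerA K A) * Nat.card F.dualAnnihilator ≤ Nat.card A := by
    refine Nat.le_of_mul_le_mul_right ?_ (Nat.card_pos (α := (usp ρ K A ⊓ fix ρ A : Submodule (ZMod p) V)))
    calc _ = Nat.card (usp ρ K A) * Nat.card (kerA K A) := by rw [← hF1]; ring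
      _ ≤ _ := hU1
  obtain ⟨q, hq⟩ : ∃ q, p = q + 2 := ⟨p - 2, by have := hp.two_le; omega⟩
  have h1 : Nat.card A * (p - 1) * (p ^ 2 - 1) ≤ (p - 1) * (Nat.card (kerA K A) * T.card) * p := by
    calc _ ≤ s.card * p * (p ^ 2 - 1) := Nat.mul_le_mul_right _ hs
      _ = s.card * (p ^ 2 - 1) * p := by ring
      _ ≤ (p - 1) * Nat.card (kerA K A) * T.card * p := Nat.mul_le_mul_right _ (hJ1.trans hJ2)
      _ = _ := by ring
  have h2 : Nat.card A * (p ^ 2 - 1) ≤ Nat.card (kerA K A) * T.card * p := by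
    refine Nat.le_of_mul_le_mul_left ?_ (show 0 < p - 1 by have := hp.two_le; omega)
    calc _ = Nat.card A * (p - 1) * (p ^ 2 - 1) := by ring
      _ ≤ _ := h1
      _ = _ := by ring
  have h3 : Nat.card (kerA K A) * T.card < Nat.card A :=
    lt_of_lt_of_le (Nat.mul_lt_mul_of_pos_left (Nat.lt_succ_self T.card) Nat.card_pos)
      ((Nat.mul_le_mul_left _ hT).trans hA)
  have h4 : p ≤ p ^ 2 - 1 := by
    have : p * 2 ≤ p * p := Nat.mul_le_mul_left p hp.two_le
    rw [pow_two]
    omega
  have h5 := (Nat.mul_le_mul_left (Nat.card A) h4).trans h2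
  exact absurd (Nat.le_of_mul_le_mul_right h5 hp.pos) (not_le.2 h3)

end Cfsg.Agent.PGV
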